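import Mathlib

/-!
# Families of integer vectors of norm 3 with pairwise inner product 2

Apart from at most three repetitions of each vector, a large family of this kind has two positions
with a common value and one private position for each vector.
-/

set_option autoImplicit false

namespace Cfsg.Agent.Lib.Homocyclic.PairFamily

variable {T Ψ : Type*} [DecidableEq T] {s : Finset T} {J : Finset Ψ} {L : Ψ → T → ℤ}
  {N : Ψ → Ψ → ℕ}

/-- The support of a vector. -/
def supp (s : Finset T) (L : Ψ → T → ℤ) (a : Ψ) : Finset T := s.filter fun t => L a t ≠ 0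

variable (hsum : ∀ a ∈ J, ∀ b ∈ J, ∑ t ∈ s, L a t * L b t = 2 + (N a b : ℤ))
  (hN1 : ∀ a ∈ J, N a a = 1) (hNle : ∀ a ∈ J, ∀ b ∈ J, N a b ≤ 1)

include hsum hN1 in
theorem value_pm {a : Ψ} (ha : a ∈ J) {t : T} (ht : t ∈ supp s L a) : L a t = 1 ∨ L a t = -1 := by
  simp only [supp, Finset.mem_filter] at ht
  have h := hsum a ha a ha
  rw [hN1 a ha] at h
  have h1 : L a t * L a t ≤ ∑ u ∈ s, L a u * L a u :=
    Finset.single_le_sum (f := fun u => L a u * L a u) (fun u _ => mul_self_nonneg _) ht.1
  rw [h] at h1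
  push_cast at h1
  have h2 : -2 < L a t ∧ L a t < 2 := ⟨by nlinarith, by nlinarith⟩
  omega

include hsum hN1 in
theorem card_supp {a : Ψ} (ha : a ∈ J) : (supp s L a).card = 3 := by
  have h := hsum a ha a ha
  rw [hN1 a ha, ← Finset.sum_subset (Finset.filter_subset (fun t => L a t ≠ 0) s)
    (fun t ht hn => by
      simp only [Finset.mem_filter, ht, true_and, not_not] at hn
      rw [hn, mul_zero])] at h
  rw [Finset.sum_congr rfl (g := fun _ => (1 : ℤ)) (fun t ht => by
    rcases value_pm hsum hN1 ha ht with e | e <;> rw [e] <;> norm_num)] at h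
  rw [Finset.sum_const, nsmul_one] at h
  push_cast at h
  have : ((supp s L a).card : ℤ) = 3 := h
  exact_mod_cast this

include hsum hN1 hNle in
theorem eq_of_one {a b : Ψ} (ha : a ∈ J) (hb : b ∈ J) (h : N a b = 1) {t : T} (ht : t ∈ s) :
    L a t = L b t := by
  have h1 := hsum a ha b hb
  have h2 := hsum a ha a ha
  have h3 := hsum b hb b hb
  rw [h] at h1
  rw [hN1 a ha] at h2
  rw [hN1 b hb] at h3
  have : ∑ u ∈ s, (L a u - L b u) ^ 2 = 0 := by
    rw [Finset.sum_congr rfl (g := fun u => L a u * L a u - 2 * (L a u * L b u) + L b u * L b u)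
      (fun u _ => by ring), Finset.sum_add_distrib, Finset.sum_sub_distrib, ← Finset.mul_sum,
      h1, h2, h3]
    norm_num
  have := (Finset.sum_eq_zero_iff_of_nonneg fun u _ => sq_nonneg _).1 this t ht
  exact sub_eq_zero.1 (pow_eq_zero_iff two_ne_zero |>.1 this)

include hsum hN1 hNle in
theorem supp_eq_of_one {a b : Ψ} (ha : a ∈ J) (hb : b ∈ J) (h : N a b = 1) :
    supp s L a = supp s L b :=
  Finset.filter_congr fun t ht => by rw [eq_of_one hsum hN1 hNle ha hb h ht]

include hsum hN1 in
/-- Two different vectors share exactly two positions, with the same values. -/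
theorem inter_of_zero {a b : Ψ} (ha : a ∈ J) (hb : b ∈ J) (h : N a b = 0) :
    (supp s L a ∩ supp s L b).card = 2 ∧ ∀ t ∈ supp s L a ∩ supp s L b, L a t = L b t := by
  have h1 := hsum a ha b hb
  rw [h, ← Finset.sum_subset (s₁ := supp s L a ∩ supp s L b)
    (fun t ht => (Finset.mem_filter.1 (Finset.mem_inter.1 ht).1).1)
    (fun t ht hn => by
      simp only [supp, Finset.mem_inter, Finset.mem_filter, ht, true_and, not_and_or, not_not]
        at hn
      rcases hn with e | e <;> rw [e] <;> ring)] at h1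
  set U := supp s L a ∩ supp s L b with hU
  have hval : ∀ t ∈ U, L a t * L b t = 1 ∨ L a t * L b t = -1 := fun t ht => by
    rcases value_pm hsum hN1 ha (Finset.mem_inter.1 ht).1 with e | e <;>
      rcases value_pm hsum hN1 hb (Finset.mem_inter.1 ht).2 with e' | e' <;> rw [e, e'] <;> simp
  set neg := U.filter fun t => L a t * L b t = -1 with hneg
  have hsplit : ∑ t ∈ U, L a t * L b t = (U.card : ℤ) - 2 * (neg.card : ℤ) := by
    rw [Finset.card_eq_sum_ones, hneg, Finset.card_filter]
    push_cast
    rw [Finset.mul_sum, ← Finset.sum_sub_distrib]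
    refine Finset.sum_congr rfl fun t ht => ?_
    rcases hval t ht with e | e <;> rw [e] <;> simp
  rw [hsplit] at h1
  have hle : U.card ≤ 3 := card_supp hsum hN1 ha ▸ Finset.card_le_card Finset.inter_subset_left
  push_cast at h1
  have hn0 : neg.card = 0 ∧ U.card = 2 := by omega
  refine ⟨hn0.2, fun t ht => ?_⟩
  have hnn : L a t * L b t ≠ -1 := fun e => by
    have : t ∈ neg := Finset.mem_filter.2 ⟨ht, e⟩
    rw [Finset.card_eq_zero.1 hn0.1] at this
    exact absurd this (Finset.notMem_empty t)
  rcases value_pm hsum hN1 ha (Finset.mem_inter.1 ht).1 with e | e <;>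
    rcases value_pm hsum hN1 hb (Finset.mem_inter.1 ht).2 with e' | e' <;>
    rw [e, e'] at hnn ⊢ <;> simp at hnn

include hsum hN1 hNle in
/-- The structure of the family. -/
theorem pair_structure (hfib : ∀ a ∈ J, (J.filter fun b => N a b = 1).card ≤ 3)
    (hbig : 15 ≤ J.card) :
    ∃ p ∈ s, ∃ q ∈ s, ∃ εp εq : ℤ, p ≠ q ∧ (εp = 1 ∨ εp = -1) ∧ (εq = 1 ∨ εq = -1) ∧
      (∀ a ∈ J, L a p = εp ∧ L a q = εq) ∧
      ∀ a ∈ J, ∃ η ∈ s, η ≠ p ∧ η ≠ q ∧ (L a η = 1 ∨ L a η = -1) ∧
        (∀ t ∈ s, t ≠ p → t ≠ q → t ≠ η → L a t = 0) ∧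
        ∀ b ∈ J, L b η = L a η * (N a b : ℤ) := by
  classical
  have h01 : ∀ a ∈ J, ∀ b ∈ J, N a b = 0 ∨ N a b = 1 := fun a ha b hb => by
    have := hNle a ha b hb
    omega
  have hS := fun a ha => card_supp (a := a) hsum hN1 ha
  obtain ⟨a, ha⟩ : J.Nonempty := Finset.card_pos.1 (by omega)
  obtain ⟨b, hb, hab⟩ : ∃ b ∈ J, N a b = 0 := by
    by_contra hall
    push Not at hall
    have : J.filter (fun b => N a b = 1) = J :=
      Finset.filter_true_of_mem fun b hb => (h01 a ha b hb).resolve_left (hall b hb)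
    have := hfib a ha
    rw [‹J.filter (fun b => N a b = 1) = J›] at this
    omega
  set π := supp s L a ∩ supp s L b with hπ
  have hπ2 : π.card = 2 := (inter_of_zero hsum hN1 ha hb hab).1
  have hall : ∀ c ∈ J, π ⊆ supp s L c := by
    by_contra hbad
    push Not at hbad
    obtain ⟨c, hc, hcπ⟩ := hbad
    set U := supp s L a ∪ supp s L b with hU
    have hU4 : U.card = 4 := by
      have h := Finset.card_union_add_card_inter (supp s L a) (supp s L b)
      rw [hS a ha, hS b hb, ← hπ, hπ2] at h
      rw [hU]; omega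
    have hsub : ∀ d ∈ J, ¬ π ⊆ supp s L d → (π ∩ supp s L d).card ≤ 1 ∧ supp s L d ⊆ U := by
      intro d hd hdπ
      have hle : (π ∩ supp s L d).card ≤ 1 := by
        have h1 : π ∩ supp s L d ⊂ π :=
          (Finset.inter_subset_left).ssubset_of_ne fun e => hdπ (e ▸ Finset.inter_subset_right)
        have := Finset.card_lt_card h1
        omega
      refine ⟨hle, ?_⟩
      have hda : N a d = 0 := (h01 a ha d hd).resolve_right fun e =>
        hdπ (supp_eq_of_one hsum hN1 hNle ha hd e ▸ Finset.inter_subset_left)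
      have hdb : N b d = 0 := (h01 b hb d hd).resolve_right fun e =>
        hdπ (supp_eq_of_one hsum hN1 hNle hb hd e ▸ Finset.inter_subset_right)
      have e1 := (inter_of_zero hsum hN1 ha hd hda).1
      have e2 := (inter_of_zero hsum hN1 hb hd hdb).1
      have e3 := Finset.card_union_add_card_inter (supp s L a ∩ supp s L d)
        (supp s L b ∩ supp s L d)
      rw [← Finset.union_inter_distrib_right, ← Finset.inter_inter_distrib_right, ← hπ, ← hU,
        e1, e2] at e3
      have e4 : U ∩ supp s L d = supp s L d := Finset.eq_of_subset_of_card_le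
        Finset.inter_subset_right (by rw [hS d hd]; omega)
      exact e4 ▸ Finset.inter_subset_left
    obtain ⟨hcle, hcU⟩ := hsub c hc hcπ
    have hallU : ∀ d ∈ J, supp s L d ⊆ U := by
      intro d hd
      by_cases hdπ : π ⊆ supp s L d
      · intro w hw
        by_contra hwU
        have hwπ : w ∉ π := fun h => hwU (Finset.mem_union_left _ (Finset.mem_inter.1 h).1)
        have her : (supp s L d).erase w = π := (Finset.eq_of_subset_of_card_le
          (fun t ht => Finset.mem_erase.2 ⟨fun e => hwπ (by rw [← e]; exact ht), hdπ ht⟩)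
          (by rw [Finset.card_erase_of_mem hw, hS d hd, hπ2])).symm
        have hcd : N c d = 0 := (h01 c hc d hd).resolve_right fun e =>
          hcπ ((supp_eq_of_one hsum hN1 hNle hc hd e).symm ▸ hdπ)
        have e1 := (inter_of_zero hsum hN1 hc hd hcd).1
        have e2 : supp s L c ∩ supp s L d ⊆ π ∩ supp s L c := by
          intro t ht
          rw [Finset.mem_inter] at ht ⊢
          refine ⟨?_, ht.1⟩
          rw [← her, Finset.mem_erase]
          exact ⟨fun e => hwU (hcU (by rw [← e]; exact ht.1)), ht.2⟩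
        have := Finset.card_le_card e2
        omega
      · exact (hsub d hd hdπ).2
    have hfibre : ∀ S ∈ J.image (supp s L), (J.filter fun d => supp s L d = S).card ≤ 3 := by
      intro S hSm
      obtain ⟨d, hd, rfl⟩ := Finset.mem_image.1 hSm
      refine le_trans (Finset.card_le_card fun d' hd' => ?_) (hfib d hd)
      rw [Finset.mem_filter] at hd' ⊢
      refine ⟨hd'.1, (h01 d hd d' hd'.1).resolve_left fun e => ?_⟩
      have := (inter_of_zero hsum hN1 hd hd'.1 e).1
      rw [hd'.2, Finset.inter_self, hS d hd] at this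
      omega
    have h1 := Finset.card_le_mul_card_image (f := supp s L) J 3 hfibre
    have h2 : (J.image (supp s L)).card ≤ 4 := by
      refine le_trans (Finset.card_le_card (t := U.powersetCard 3) fun S hSm => ?_) ?_
      · obtain ⟨d, hd, rfl⟩ := Finset.mem_image.1 hSm
        exact Finset.mem_powersetCard.2 ⟨hallU d hd, hS d hd⟩
      · rw [Finset.card_powersetCard, hU4]
        decide
    omega
  obtain ⟨p, q, hpq, hpqe⟩ := Finset.card_eq_two.1 hπ2
  have hp : p ∈ π := by rw [hpqe]; simp
  have hq : q ∈ π := by rw [hpqe]; simp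
  have hpa := (Finset.mem_inter.1 hp).1
  have hqa := (Finset.mem_inter.1 hq).1
  have hagree : ∀ c ∈ J, ∀ t ∈ π, L c t = L a t := by
    intro c hc t ht
    rcases h01 a ha c hc with e | e
    · exact ((inter_of_zero hsum hN1 ha hc e).2 t
        (Finset.mem_inter.2 ⟨(Finset.mem_inter.1 ht).1, hall c hc ht⟩)).symm
    · exact (eq_of_one hsum hN1 hNle ha hc e
        (Finset.mem_filter.1 (Finset.mem_inter.1 ht).1).1).symm
  refine ⟨p, (Finset.mem_filter.1 hpa).1, q, (Finset.mem_filter.1 hqa).1, L a p, L a q, hpq,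
    value_pm hsum hN1 ha hpa, value_pm hsum hN1 ha hqa,
    fun c hc => ⟨hagree c hc p hp, hagree c hc q hq⟩, fun c hc => ?_⟩
  obtain ⟨η, hη⟩ : ∃ η, supp s L c \ π = {η} := by
    rw [← Finset.card_eq_one, Finset.card_sdiff_of_subset (hall c hc), hS c hc, hπ2]
  have hηm : η ∈ supp s L c \ π := by rw [hη]; exact Finset.mem_singleton_self _
  rw [Finset.mem_sdiff] at hηm
  refine ⟨η, (Finset.mem_filter.1 hηm.1).1, fun e => hηm.2 (e ▸ hp), fun e => hηm.2 (e ▸ hq),
    value_pm hsum hN1 hc hηm.1, fun t ht h1 h2 h3 => ?_, fun d hd => ?_⟩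
  · by_contra h0
    have : t ∈ supp s L c \ π := by
      rw [Finset.mem_sdiff, hpqe]
      exact ⟨Finset.mem_filter.2 ⟨ht, h0⟩, by simp [h1, h2]⟩
    rw [hη, Finset.mem_singleton] at this
    exact h3 this
  · rcases h01 c hc d hd with e | e
    · rw [e, Nat.cast_zero, mul_zero]
      by_contra h0
      have hηd : η ∈ supp s L d := Finset.mem_filter.2 ⟨(Finset.mem_filter.1 hηm.1).1, h0⟩
      have h3 : insert η π ⊆ supp s L c ∩ supp s L d := by
        intro t ht
        rcases Finset.mem_insert.1 ht with rfl | ht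
        · exact Finset.mem_inter.2 ⟨hηm.1, hηd⟩
        · exact Finset.mem_inter.2 ⟨hall c hc ht, hall d hd ht⟩
      have := Finset.card_le_card h3
      rw [Finset.card_insert_of_notMem hηm.2, hπ2, (inter_of_zero hsum hN1 hc hd e).1] at this
      omega
    · rw [e, Nat.cast_one, mul_one]
      exact (eq_of_one hsum hN1 hNle hc hd e (Finset.mem_filter.1 hηm.1).1).symm

end Cfsg.Agent.Lib.Homocyclic.PairFamily
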