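import Mathlib.GroupTheory.Sylow
import Mathlib.GroupTheory.Transfer
import Mathlib.Data.ZMod.Basic
import Mathlib.GroupTheory.Perm.Fin

/-!
# Sylow 2-subgroups of type (2^m, 2^m): the normaliser modulo the centraliser
-/

namespace Cfsg.Agent.Lib.Homocyclic.TwoTwo

/-- The two solutions of x + x = 0 in the integers modulo 2^m. -/
theorem two_torsion_iff (m : ℕ) (hm : 1 ≤ m) (x : ZMod (2 ^ m)) :
    x + x = 0 ↔ x = 0 ∨ x = ((2 ^ (m - 1) : ℕ) : ZMod (2 ^ m)) := by
  haveI : NeZero (2 ^ m) := ⟨by positivity⟩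
  have hpow : 2 ^ m = 2 * 2 ^ (m - 1) := by rw [← pow_succ', Nat.sub_add_cancel hm]
  constructor
  · intro hx
    have h1 : ((2 * x.val : ℕ) : ZMod (2 ^ m)) = 0 := by
      rw [two_mul, Nat.cast_add, ZMod.natCast_zmod_val]; exact hx
    rw [ZMod.natCast_eq_zero_iff] at h1
    have hlt : x.val < 2 * 2 ^ (m - 1) := x.val_lt.trans_eq hpow
    obtain ⟨c, hc⟩ := Nat.dvd_of_mul_dvd_mul_left two_pos ((dvd_of_eq hpow.symm).trans h1)
    have hc2 : c < 2 := by
      by_contra hcon
      have h3 : 2 ^ (m - 1) * 2 ≤ 2 ^ (m - 1) * c := Nat.mul_le_mul_left _ (not_lt.1 hcon)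
      omega
    interval_cases c
    · left; rw [← ZMod.natCast_zmod_val x, hc]; simp
    · right; rw [← ZMod.natCast_zmod_val x, hc, mul_one]
  · rintro (rfl | rfl)
    · simp
    · rw [← Nat.cast_add, ← two_mul, ← hpow, ZMod.natCast_self]

theorem half_ne_zero (m : ℕ) (hm : 1 ≤ m) : ((2 ^ (m - 1) : ℕ) : ZMod (2 ^ m)) ≠ 0 := by
  rw [Ne, ZMod.natCast_eq_zero_iff]
  intro h
  have := Nat.le_of_dvd (by positivity) h
  have h2 : 2 ^ m = 2 * 2 ^ (m - 1) := by rw [← pow_succ', Nat.sub_add_cancel hm]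
  have : 0 < 2 ^ (m - 1) := by positivity
  omega

/-- A group of type (2^m, 2^m) has exactly three involutions. -/
theorem card_involutions {P : Type*} [Group P] (m : ℕ) (hm : 1 ≤ m)
    (e : P ≃* Multiplicative (ZMod (2 ^ m) × ZMod (2 ^ m))) :
    Nat.card {z : P // orderOf z = 2} = 3 := by
  classical
  set h : ZMod (2 ^ m) := ((2 ^ (m - 1) : ℕ) : ZMod (2 ^ m)) with hh
  have hne : h ≠ 0 := half_ne_zero m hm
  let f : {z : P // orderOf z = 2} ≃
      {w : ZMod (2 ^ m) × ZMod (2 ^ m) // w ≠ 0 ∧ w + w = 0} :=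
    Equiv.subtypeEquiv (e.toEquiv.trans Multiplicative.toAdd) fun z => by
      rw [← MulEquiv.orderOf_eq e z, orderOf_eq_prime_iff]
      change (e z ^ 2 = 1 ∧ e z ≠ 1) ↔ _
      rw [pow_two]
      constructor
      · rintro ⟨a, b⟩; exact ⟨fun c => b c, a⟩
      · rintro ⟨a, b⟩; exact ⟨b, fun c => a c⟩
  rw [Nat.card_congr f]
  have hset : {w : ZMod (2 ^ m) × ZMod (2 ^ m) | w ≠ 0 ∧ w + w = 0} =
      ↑({(h, 0), (0, h), (h, h)} : Finset (ZMod (2 ^ m) × ZMod (2 ^ m))) := by
    ext ⟨a, b⟩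
    simp only [Set.mem_ofPred_eq, ne_eq, Prod.mk_eq_zero, Prod.mk_add_mk,
      two_torsion_iff m hm, Finset.coe_insert, Finset.coe_singleton, Set.mem_insert_iff,
      Set.mem_singleton_iff, Prod.mk.injEq, ← hh]
    constructor
    · rintro ⟨hn, ha, hb⟩
      rcases ha with ha | ha <;> rcases hb with hb | hb <;> simp_all
    · rintro (⟨rfl, rfl⟩ | ⟨rfl, rfl⟩ | ⟨rfl, rfl⟩) <;> simp [hne]
  change Nat.card ({w : ZMod (2 ^ m) × ZMod (2 ^ m) | w ≠ 0 ∧ w + w = 0} : Set _) = 3
  rw [hset, Nat.card_coe_set_eq, Set.ncard_coe_finset]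
  rw [Finset.card_insert_of_notMem (by simp [hne, hne.symm]), Finset.card_insert_of_notMem
      (by simp [hne.symm]),
    Finset.card_singleton]

variable {G : Type*} [Group G] [Finite G]

/-- An element of odd order modulo the centralizer which fixes all involutions of an abelian
2-group centralises it. -/
theorem mem_centralizer_of_fixes_involutions (P : Subgroup G) (hP : IsPGroup 2 P)
    (hab : ∀ a ∈ P, ∀ b ∈ P, a * b = b * a) (n : G) (r : ℕ) (hr : Odd r)
    (hn : n ^ r ∈ Subgroup.centralizer (P : Set G)) (hN : n ∈ Subgroup.normalizer (P : Set G))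
    (hfix : ∀ z ∈ P, orderOf z = 2 → n * z * n⁻¹ = z) :
    n ∈ Subgroup.centralizer (P : Set G) := by
  have key : ∀ i : ℕ, ∀ x ∈ P, x ^ (2 ^ i) = 1 → n * x * n⁻¹ = x := by
    intro i
    induction i with
    | zero => intro x _ hx; simp at hx; subst hx; simp
    | succ i ih =>
      intro x hx hxi
      have hx2 : n * x ^ 2 * n⁻¹ = x ^ 2 :=
        ih (x ^ 2) (pow_mem hx 2) (by rw [← pow_mul, ← pow_succ']; exact hxi)
      have hy : n * x * n⁻¹ ∈ P := (Subgroup.mem_normalizer_iff.1 hN x).1 hx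
      set d := x⁻¹ * (n * x * n⁻¹) with hd
      have hdP : d ∈ P := mul_mem (inv_mem hx) hy
      have hd2 : d ^ 2 = 1 := by
        rw [hd, Commute.mul_pow (hab _ (inv_mem hx) _ hy), conj_pow, hx2, inv_pow]
        exact inv_mul_cancel _
      have hdfix : n * d * n⁻¹ = d := by
        rcases eq_or_ne d 1 with h | h
        · simp [h]
        · exact hfix d hdP (orderOf_eq_prime_iff.2 ⟨hd2, h⟩)
      have hit : ∀ j : ℕ, n ^ j * x * (n ^ j)⁻¹ = x * d ^ j := by
        intro j
        induction j with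
        | zero => simp
        | succ j ihj =>
          calc n ^ (j + 1) * x * (n ^ (j + 1))⁻¹ = n * (n ^ j * x * (n ^ j)⁻¹) * n⁻¹ := by
                rw [pow_succ']; group
            _ = n * x * n⁻¹ * (n * d * n⁻¹) ^ j := by rw [ihj, conj_pow]; group
            _ = x * d ^ (j + 1) := by
                rw [hdfix, pow_succ', hd, ← mul_assoc x, mul_inv_cancel_left]
      have hdr : d ^ r = 1 := by
        have h1 := hit r
        rw [← Subgroup.mem_centralizer_iff.1 hn x hx, mul_inv_cancel_right] at h1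
        exact mul_eq_left.1 h1.symm
      have hd1 : d = 1 := by
        obtain ⟨t, rfl⟩ := hr
        rw [pow_succ, pow_mul, hd2, one_pow, one_mul] at hdr
        exact hdr
      rw [hd] at hd1
      exact (inv_mul_eq_one.1 hd1).symm
  rw [Subgroup.mem_centralizer_iff]
  intro x hx
  obtain ⟨i, hi⟩ := hP ⟨x, hx⟩
  have := key i x hx (congrArg Subtype.val hi)
  rw [mul_inv_eq_iff_eq_mul] at this
  exact this.symm

/-- The index of the centraliser in the normaliser, and the action on involutions. -/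
theorem normalizer_facts (P : Sylow 2 G) (m : ℕ) (hm : 1 ≤ m)
    (e : (P : Subgroup G) ≃* Multiplicative (ZMod (2 ^ m) × ZMod (2 ^ m))) :
    ((Subgroup.centralizer (P : Set G)).relIndex (Subgroup.normalizer (P : Set G)) = 1 ∨
      (Subgroup.centralizer (P : Set G)).relIndex (Subgroup.normalizer (P : Set G)) = 3) ∧
    ((Subgroup.centralizer (P : Set G)).relIndex (Subgroup.normalizer (P : Set G)) ≠ 1 →
      (∀ z ∈ (P : Subgroup G), z ≠ 1 → Subgroup.centralizer ({z} : Set G) ⊓
        Subgroup.normalizer (P : Set G) = Subgroup.centralizer (P : Set G)) ∧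
      ∀ s ∈ (P : Subgroup G), ∀ t ∈ (P : Subgroup G), orderOf s = 2 → orderOf t = 2 →
        ∃ n ∈ Subgroup.normalizer (P : Set G), n * s * n⁻¹ = t) := by
  classical
  set N := Subgroup.normalizer (P : Set G) with hNdef
  set C := Subgroup.centralizer (P : Set G) with hCdef
  have hab : ∀ a ∈ (P : Subgroup G), ∀ b ∈ (P : Subgroup G), a * b = b * a := by
    intro a ha b hb
    have := e.injective (a₁ := ⟨a, ha⟩ * ⟨b, hb⟩) (a₂ := ⟨b, hb⟩ * ⟨a, ha⟩)
      (by rw [map_mul, map_mul, mul_comm])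
    exact congrArg Subtype.val this
  have hPN : (P : Subgroup G) ≤ N := Subgroup.le_normalizer
  have hPC : (P : Subgroup G) ≤ C := fun a ha =>
    Subgroup.mem_centralizer_iff.2 fun b hb => hab b hb a ha
  have hCN : C ≤ N := Subgroup.centralizer_le_normalizer _
  let T := {z : (P : Subgroup G) // orderOf z = 2}
  have hT : Nat.card T = 3 := card_involutions m hm e
  have hmem : ∀ (n : N) (z : T), (n : G) * (z.1 : G) * (n : G)⁻¹ ∈ (P : Subgroup G) := fun n z =>
    (Subgroup.mem_normalizer_iff.1 n.2 _).1 z.1.2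
  have hord : ∀ (n : N) (z : T), orderOf (⟨_, hmem n z⟩ : (P : Subgroup G)) = 2 := fun n z => by
    rw [← Subgroup.orderOf_coe]
    change orderOf ((n : G) * (z.1 : G) * (n : G)⁻¹) = 2
    rw [← MulAut.conj_apply, MulEquiv.orderOf_eq, Subgroup.orderOf_coe]
    exact z.2
  let act : MulAction N T :=
    { smul := fun n z => ⟨⟨_, hmem n z⟩, hord n z⟩
      mul_smul := fun a b z => Subtype.ext (Subtype.ext (by
        change ((a : G) * b) * (z.1 : G) * ((a : G) * b)⁻¹ = _
        simp [HSMul.hSMul, mul_assoc]))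
      one_smul := fun z => Subtype.ext (Subtype.ext (by
        change (1 : G) * (z.1 : G) * (1 : G)⁻¹ = _
        simp)) }
  let φ : N →* Equiv.Perm T := MulAction.toPermHom N T
  have hφ : ∀ (n : N) (z : T), ((φ n z).1 : G) = (n : G) * (z.1 : G) * (n : G)⁻¹ := fun n z => rfl
  have hodd : Odd (C.subgroupOf N).index := by
    have h1 : ¬ 2 ∣ ((P : Subgroup G).subgroupOf N).index := (P.subtype hPN).not_dvd_index
    have h2 : (C.subgroupOf N).index ∣ ((P : Subgroup G).subgroupOf N).index :=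
      Subgroup.index_dvd_of_le (fun x hx => hPC hx)
    exact Nat.not_even_iff_odd.1 fun he => h1 (he.two_dvd.trans h2)
  haveI hCn : (C.subgroupOf N).Normal := by
    refine ⟨fun c hc g => ?_⟩
    have hg := g.2
    rw [Subgroup.mem_subgroupOf, Subgroup.mem_centralizer_iff] at hc ⊢
    intro x hx
    have h1 := hc _ ((Subgroup.mem_normalizer_iff''.1 hg x).1 hx)
    have h2 := congrArg (fun t => (g : G) * t * (g : G)⁻¹) h1
    simpa [mul_assoc] using h2
  have hpowmem : ∀ n : N, (n : G) ^ (C.subgroupOf N).index ∈ C := fun n => by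
    have := Subgroup.pow_index_mem (C.subgroupOf N) n
    rw [Subgroup.mem_subgroupOf, Subgroup.coe_pow] at this
    exact this
  have hker : φ.ker = C.subgroupOf N := by
    ext n
    rw [MonoidHom.mem_ker, Subgroup.mem_subgroupOf]
    constructor
    · intro hn
      refine mem_centralizer_of_fixes_involutions (P : Subgroup G) P.2 hab n _ hodd (hpowmem n)
        n.2 fun z hz hz2 => ?_
      have := congrArg (fun σ : Equiv.Perm T =>
        ((σ ⟨⟨z, hz⟩, by rw [← Subgroup.orderOf_coe]; exact hz2⟩).1 : G)) hn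
      exact this
    · intro hn
      refine Equiv.ext fun z => Subtype.ext (Subtype.ext ?_)
      rw [hφ, ← Subgroup.mem_centralizer_iff.1 hn _ z.1.2, mul_inv_cancel_right]
      rfl
  let T3 : T ≃ Fin 3 := (Finite.equivFin T).trans (finCongr hT)
  have hdvd : (C.subgroupOf N).index ∣ 6 := by
    rw [← hker, Subgroup.index_ker]
    refine (Subgroup.card_subgroup_dvd_card φ.range).trans ?_
    rw [Nat.card_congr T3.permCongr, Nat.card_eq_fintype_card, Fintype.card_perm, Fintype.card_fin]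
    rfl
  have h13 : C.relIndex N = 1 ∨ C.relIndex N = 3 := by
    change (C.subgroupOf N).index = 1 ∨ (C.subgroupOf N).index = 3
    obtain ⟨t, ht⟩ := hodd
    have := Nat.le_of_dvd (by norm_num) hdvd
    generalize (C.subgroupOf N).index = i at *
    interval_cases i <;> first | omega | norm_num at hdvd
  refine ⟨h13, fun hne => ?_⟩
  have h3 : (C.subgroupOf N).index = 3 := h13.resolve_left hne
  have hcube : ∀ n : N, φ n ^ 3 = 1 := fun n => by
    rw [← map_pow, ← MonoidHom.mem_ker, hker, ← h3]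
    exact Subgroup.pow_index_mem (C.subgroupOf N) n
  have hfin : ∀ σ : Equiv.Perm (Fin 3), σ ^ 3 = 1 → σ ≠ 1 → ∀ i j : Fin 3,
      σ i = j ∨ σ (σ i) = j ∨ i = j := by decide +kernel
  have hfin2 : ∀ σ : Equiv.Perm (Fin 3), σ ^ 3 = 1 → σ ≠ 1 → ∀ i : Fin 3, σ i ≠ i := by
    decide +kernel
  have htr : ∀ n : N, n ∉ C.subgroupOf N →
      (T3.permCongrHom (φ n)) ^ 3 = 1 ∧ T3.permCongrHom (φ n) ≠ 1 := fun n hn =>
    ⟨by rw [← map_pow, hcube, map_one], fun h => hn (by
      rw [← hker, MonoidHom.mem_ker]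
      exact T3.permCongrHom.injective (h.trans (map_one _).symm))⟩
  constructor
  · intro z hz hz1
    apply le_antisymm
    · rintro n ⟨hnz, hnN⟩
      by_contra hnC
      obtain ⟨h3', hne'⟩ := htr ⟨n, hnN⟩ (by rwa [Subgroup.mem_subgroupOf])
      obtain ⟨i, hi, hi2⟩ : ∃ i : ℕ, orderOf (z ^ i) = 2 ∧ n * z ^ i * n⁻¹ = z ^ i := by
        have hcomm : Commute n z := Subgroup.mem_centralizer_singleton_iff.1 hnz
        obtain ⟨j, hj⟩ := IsPGroup.iff_orderOf.1 P.2 ⟨z, hz⟩
        rw [← Subgroup.orderOf_coe] at hj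
        refine ⟨2 ^ (j - 1), ?_, ?_⟩
        · have hj0 : j ≠ 0 := fun h0 => hz1 (orderOf_eq_one_iff.1 (by simpa [h0] using hj))
          rw [orderOf_pow' _ (by positivity)]
          change orderOf z = _ at hj
          rw [hj]
          have : Nat.gcd (2 ^ j) (2 ^ (j - 1)) = 2 ^ (j - 1) :=
            Nat.gcd_eq_right (pow_dvd_pow 2 (Nat.sub_le _ _))
          rw [this, Nat.pow_div (Nat.sub_le _ _) two_pos, show j - (j - 1) = 1 by omega, pow_one]
        · rw [(hcomm.pow_right _).eq, mul_inv_cancel_right]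
      let w : T := ⟨⟨z ^ i, pow_mem hz i⟩, by rw [← Subgroup.orderOf_coe]; exact hi⟩
      have hw : φ ⟨n, hnN⟩ w = w := Subtype.ext (Subtype.ext (by rw [hφ]; exact hi2))
      refine hfin2 _ h3' hne' (T3 w) ?_
      simp [Equiv.permCongrHom, Equiv.permCongr_apply, hw]
    · intro n hn
      exact ⟨Subgroup.mem_centralizer_singleton_iff.2
        (Subgroup.mem_centralizer_iff.1 hn z hz).symm, hCN hn⟩
  · intro s hs t ht hs2 ht2
    obtain ⟨n, hn⟩ : ∃ n : N, n ∉ C.subgroupOf N := by
      by_contra hall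
      push Not at hall
      have : C.subgroupOf N = ⊤ := eq_top_iff.2 fun x _ => hall x
      rw [this, Subgroup.index_top] at h3
      omega
    obtain ⟨h3', hne'⟩ := htr n hn
    let s' : T := ⟨⟨s, hs⟩, by rw [← Subgroup.orderOf_coe]; exact hs2⟩
    let t' : T := ⟨⟨t, ht⟩, by rw [← Subgroup.orderOf_coe]; exact ht2⟩
    rcases hfin _ h3' hne' (T3 s') (T3 t') with h | h | h
    · simp [Equiv.permCongrHom, Equiv.permCongr_apply] at h
      exact ⟨n, n.2, congrArg (fun w : T => (w.1 : G)) h⟩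
    · simp [Equiv.permCongrHom, Equiv.permCongr_apply] at h
      refine ⟨(n : G) * n, mul_mem n.2 n.2, ?_⟩
      have := congrArg (fun w : T => (w.1 : G)) h
      simp only [hφ] at this
      rw [mul_inv_rev]
      simpa [mul_assoc] using this
    · refine ⟨1, one_mem _, ?_⟩
      rw [inv_one, mul_one, one_mul]
      exact congrArg (fun w : T => (w.1 : G)) (T3.injective h)

end Cfsg.Agent.Lib.Homocyclic.TwoTwo
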