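import Cfsg.Agent.S0840
import Cfsg.Agent.S0947
import Cfsg.Agent.Lib.Blocks.Orthogonality
import Cfsg.Agent.Lib.BrauerMap.PrincipalSection
import Cfsg.Agent.Lib.Characters.Linear
import Cfsg.Agent.Lib.Cores.Basic
import Cfsg.Agent.Lib.Homocyclic.TwoTwo
import Cfsg.Agent.Lib.Homocyclic.PairFamily

/-!
# Brauer's theorem on homocyclic Sylow 2-subgroups of rank 2

`P` is an abelian Sylow 2-subgroup, `n` normalises it, induces a fixed-point-free automorphism of
order 3 and controls its fusion.  The principal block then has two non-exceptional characters with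
values ±1 on `P`, and a class algebra relation forces their degree to be 1.
-/

set_option autoImplicit false
set_option linter.unusedSectionVars false
set_option linter.style.haveILetI false

namespace Cfsg.Agent.Lib.Homocyclic.BrauerTheorem

open Cfsg.Agent.Lib.Blocks Cfsg.Agent.Lib.Characters.Basic
open Cfsg.Agent.Lib.Induced.Basic (natCard_ne_zero)
open scoped ComplexConjugate

universe u

variable {G : Type u} [Group G] [Finite G]

/-- The hypotheses on `P` and `n`. -/
structure Fused (P : Sylow 2 G) (n : G) : Prop where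
  comm : ∀ a ∈ (P : Subgroup G), ∀ b ∈ (P : Subgroup G), a * b = b * a
  mem : n ∈ Subgroup.normalizer ((P : Subgroup G) : Set G)
  cube : n ^ 3 ∈ Subgroup.centralizer ((P : Subgroup G) : Set G)
  fix : ∀ z ∈ (P : Subgroup G), z ≠ 1 → ∀ i : ℕ, n ^ i * z * (n ^ i)⁻¹ = z → 3 ∣ i
  fus : ∀ x ∈ (P : Subgroup G), ∀ y ∈ (P : Subgroup G), IsConj x y →
    ∃ i : Fin 3, n ^ (i : ℕ) * x * (n ^ (i : ℕ))⁻¹ = y
  cen : ∀ c ∈ Subgroup.normalizer ((P : Subgroup G) : Set G), ∀ z ∈ (P : Subgroup G), z ≠ 1 →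
    Commute c z → c ∈ Subgroup.centralizer ((P : Subgroup G) : Set G)

variable {P : Sylow 2 G} {n : G} (hF : Fused P n)

/-- Conjugation by `n ^ i` on `P`. -/
noncomputable def sg (i : ℕ) : (P : Subgroup G) →* (P : Subgroup G) :=
  ((MulAut.conj (n ^ i)).toMonoidHom.comp (P : Subgroup G).subtype).codRestrict (P : Subgroup G)
    fun x => (Subgroup.mem_normalizer_iff.1 (pow_mem hF.mem i) x).1 x.2

theorem coe_sg (i : ℕ) (x : (P : Subgroup G)) :
    ((sg hF i x : (P : Subgroup G)) : G) = n ^ i * x * (n ^ i)⁻¹ := rfl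

theorem sg_add (i j : ℕ) (x : (P : Subgroup G)) : sg hF i (sg hF j x) = sg hF (i + j) x := by
  apply Subtype.ext
  simp only [coe_sg, pow_add]
  group

theorem sg_three (k : ℕ) (x : (P : Subgroup G)) : sg hF (3 * k) x = x := by
  apply Subtype.ext
  rw [coe_sg, pow_mul]
  have h := Subgroup.mem_centralizer_iff.1 (pow_mem hF.cube k) x x.2
  rw [← h, mul_inv_cancel_right]

theorem sg_mod (i : ℕ) (x : (P : Subgroup G)) : sg hF i x = sg hF (i % 3) x := by
  conv_lhs => rw [← Nat.mod_add_div i 3]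
  rw [← sg_add, sg_three]

theorem sg_injective (i : ℕ) : Function.Injective (sg hF i) := fun x y h => by
  have := congrArg (sg hF (2 * i)) h
  rwa [sg_add, sg_add, show 2 * i + i = 3 * i by ring, sg_three, sg_three] at this

theorem sg_fixed {i : ℕ} {x : (P : Subgroup G)} (hx : x ≠ 1) (h : sg hF i x = x) : 3 ∣ i :=
  hF.fix x x.2 (fun e => hx (Subtype.ext e)) i (congrArg Subtype.val h)

theorem sg_eq_iff {i j : Fin 3} {x : (P : Subgroup G)} (hx : x ≠ 1)
    (h : sg hF i x = sg hF j x) : i = j := by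
  have h' := congrArg (sg hF (2 * (j : ℕ))) h
  rw [sg_add, sg_add, show 2 * (j : ℕ) + j = 3 * j by ring, sg_three] at h'
  have := sg_fixed hF hx h'
  omega

include hF in
/-- A commutative group structure on `P`. -/
noncomputable abbrev commGrp : CommGroup (P : Subgroup G) :=
  { (inferInstance : Group (P : Subgroup G)) with
    mul_comm := fun a b => Subtype.ext (hF.comm a a.2 b b.2) }

include hF in
theorem finite_dual : Finite ((P : Subgroup G) →* ℂˣ) := by
  letI := commGrp hF
  exact Nat.finite_of_card_ne_zero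
    (by rw [CommGroup.card_monoidHom_of_hasEnoughRootsOfUnity]; exact Nat.card_pos.ne')

include hF in
theorem card_dual : Nat.card ((P : Subgroup G) →* ℂˣ) = Nat.card (P : Subgroup G) := by
  letI := commGrp hF
  exact CommGroup.card_monoidHom_of_hasEnoughRootsOfUnity _ ℂ

include hF in
open scoped Classical in
theorem sum_dual [Fintype ((P : Subgroup G) →* ℂˣ)] (x : (P : Subgroup G)) :
    ∑ ψ : (P : Subgroup G) →* ℂˣ, (ψ x : ℂ) =
      if x = 1 then (Nat.card (P : Subgroup G) : ℂ) else 0 := by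
  split_ifs with h
  · subst h
    simp [← card_dual hF, Nat.card_eq_fintype_card]
  · letI := commGrp hF
    obtain ⟨φ, hφ⟩ := CommGroup.exists_apply_ne_one_of_hasEnoughRootsOfUnity _ ℂ h
    refine sum_hom_units_eq_zero
      ((Units.coeHom ℂ).comp (MonoidHom.eval x : ((P : Subgroup G) →* ℂˣ) →* ℂˣ)) fun h0 => hφ ?_
    exact Units.ext (by simpa using DFunLike.congr_fun h0 φ)

open scoped Classical in
theorem sum_elems [Fintype (P : Subgroup G)] (ψ : (P : Subgroup G) →* ℂˣ) :
    ∑ x : (P : Subgroup G), (ψ x : ℂ) =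
      if ψ = 1 then (Nat.card (P : Subgroup G) : ℂ) else 0 := by
  split_ifs with h
  · subst h
    simp [Nat.card_eq_fintype_card]
  · refine sum_hom_units_eq_zero ((Units.coeHom ℂ).comp ψ) fun h0 => h ?_
    exact MonoidHom.ext fun x => Units.ext (by simpa using DFunLike.congr_fun h0 x)

theorem conj_hom (ψ : (P : Subgroup G) →* ℂˣ) (x : (P : Subgroup G)) :
    conj (ψ x : ℂ) = (ψ x⁻¹ : ℂ) := by
  have := apply_inv (isCharacter_irr (Characters.Linear.linChar ψ)) x
  rw [Characters.Linear.linChar_apply, Characters.Linear.linChar_apply] at this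
  exact this.symm

open scoped Classical in
/-- The number of `i` carrying `ψ'` to `ψ`. -/
noncomputable def orbN (ψ ψ' : (P : Subgroup G) →* ℂˣ) : ℕ :=
  (Finset.univ.filter fun i : Fin 3 => ψ'.comp (sg hF i) = ψ).card

theorem comp_fixed {i : ℕ} {ψ : (P : Subgroup G) →* ℂˣ} (hψ : ψ ≠ 1)
    (h : ψ.comp (sg hF i) = ψ) : 3 ∣ i := by
  by_contra h3
  apply hψ
  letI := commGrp hF
  have hinj : Function.Injective (fun x : (P : Subgroup G) => x⁻¹ * sg hF i x) := by
    intro x y hxy
    by_contra hne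
    refine h3 (sg_fixed hF (x := x * y⁻¹) (fun e => hne (mul_inv_eq_one.1 e)) ?_)
    simp only at hxy
    rw [inv_mul_eq_iff_eq_mul] at hxy
    rw [map_mul, map_inv, hxy, ← mul_assoc, mul_assoc (x * y⁻¹), mul_inv_cancel, mul_one]
  ext x
  obtain ⟨y, hy⟩ := (Finite.injective_iff_surjective.1 hinj) x
  have := DFunLike.congr_fun h y
  simp only [MonoidHom.comp_apply] at this
  rw [← hy]
  simp [map_mul, this]

theorem comp_eq_iff {i j : Fin 3} {ψ : (P : Subgroup G) →* ℂˣ} (hψ : ψ ≠ 1)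
    (h : ψ.comp (sg hF i) = ψ.comp (sg hF j)) : i = j := by
  have h' : ψ.comp (sg hF (i + 2 * (j : ℕ))) = ψ := by
    ext x
    have := DFunLike.congr_fun h (sg hF (2 * (j : ℕ)) x)
    simp only [MonoidHom.comp_apply, sg_add] at this
    rw [show (j : ℕ) + 2 * j = 3 * j by ring, sg_three] at this
    simp only [MonoidHom.comp_apply, this]
  have := comp_fixed hF hψ h'
  omega

theorem comp_ne_one {i : ℕ} {ψ : (P : Subgroup G) →* ℂˣ} (hψ : ψ ≠ 1) : ψ.comp (sg hF i) ≠ 1 := by
  intro h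
  apply hψ
  ext x
  obtain ⟨y, rfl⟩ := (Finite.injective_iff_surjective.1 (sg_injective hF i)) x
  exact congrArg Units.val (DFunLike.congr_fun h y)

theorem orbN_self {ψ : (P : Subgroup G) →* ℂˣ} (hψ : ψ ≠ 1) : orbN hF ψ ψ = 1 := by
  classical
  rw [orbN, Finset.card_eq_one]
  refine ⟨0, Finset.eq_singleton_iff_unique_mem.2 ⟨?_, fun i hi => ?_⟩⟩
  · rw [Finset.mem_filter]
    refine ⟨Finset.mem_univ _, MonoidHom.ext fun x => ?_⟩
    rw [MonoidHom.comp_apply]
    exact congrArg ψ (sg_three hF 0 x)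
  · rw [Finset.mem_filter] at hi
    have := comp_fixed hF hψ hi.2
    omega

theorem orbN_le {ψ ψ' : (P : Subgroup G) →* ℂˣ} (hψ' : ψ' ≠ 1) : orbN hF ψ ψ' ≤ 1 := by
  classical
  rw [orbN, Finset.card_le_one]
  intro i hi j hj
  rw [Finset.mem_filter] at hi hj
  exact comp_eq_iff hF hψ' (hi.2.trans hj.2.symm)

/-- The conjugates of `t` under `n` sum with their characters to `S` with `S ^ 2 = 3 + 2 S`. -/
theorem sq_sum_orbit {t : (P : Subgroup G)} (ht : t * t = 1) (ht1 : t ≠ 1)
    (ψ : (P : Subgroup G) →* ℂˣ) :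
    (∑ i : Fin 3, (ψ (sg hF i t) : ℂ)) ^ 2 = 3 + 2 * ∑ i : Fin 3, (ψ (sg hF i t) : ℂ) := by
  letI := commGrp hF
  set y := sg hF 0 t * sg hF 1 t * sg hF 2 t with hy
  have hy1 : y = 1 := by
    by_contra hne
    have hfix : sg hF 1 y = y := by
      rw [hy, map_mul, map_mul, sg_add, sg_add, sg_add, sg_mod hF (1 + 2)]
      rw [show (1 + 2) % 3 = 0 by rfl, show 1 + 0 = 1 by rfl, show 1 + 1 = 2 by rfl]
      rw [mul_comm, mul_assoc]
    have := sg_fixed hF hne hfix
    omega
  have hsq : ∀ i : ℕ, (ψ (sg hF i t) : ℂ) * (ψ (sg hF i t) : ℂ) = 1 := fun i => by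
    rw [← Units.val_mul, ← map_mul, ← map_mul, ht, map_one, map_one, Units.val_one]
  have habc : (ψ (sg hF 0 t) : ℂ) * ψ (sg hF 1 t) * ψ (sg hF 2 t) = 1 := by
    rw [← Units.val_mul, ← Units.val_mul, ← map_mul, ← map_mul, ← hy, hy1, map_one, Units.val_one]
  have hA := hsq 0
  have hB := hsq 1
  have hC := hsq 2
  simp only [Fin.sum_univ_three, Fin.val_zero, Fin.val_one, Fin.val_two]
  generalize (ψ (sg hF 0 t) : ℂ) = A at *
  generalize (ψ (sg hF 1 t) : ℂ) = B at *
  generalize (ψ (sg hF 2 t) : ℂ) = C at *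
  have e1 : A * B = C := by linear_combination (-(A * B)) * hC + C * habc
  have e2 : A * C = B := by linear_combination (-(A * C)) * hB + B * habc
  have e3 : B * C = A := by linear_combination (-(B * C)) * hA + A * habc
  linear_combination hA + hB + hC + 2 * e1 + 2 * e2 + 2 * e3

include hF in
/-- The norm sum at a non-identity element of `P`. -/
theorem sum_norm_sq (M : Ideal Cfsg.AlgInt) (hM : Cfsg.IsPModular 2 M) {x : G}
    (hx : x ∈ (P : Subgroup G)) (hx1 : x ≠ 1) :
    ∑ᶠ ζ ∈ Cfsg.principalBlock M G, ‖(ζ : G → ℂ) x‖ ^ 2 =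
      (Nat.card (P : Subgroup G) : ℝ) := by
  haveI : Fact (Nat.Prime 2) := ⟨Nat.prime_two⟩
  set C := Subgroup.centralizer ({x} : Set G)
  have hle : (P : Subgroup G) ≤ C := fun a ha =>
    Subgroup.mem_centralizer_singleton_iff.2 (hF.comm a ha x hx)
  set Q : Sylow 2 C := P.subtype hle with hQ
  have hQmem : ∀ a : C, a ∈ (Q : Subgroup C) ↔ (a : G) ∈ (P : Subgroup G) := by
    intro a
    rw [hQ, Sylow.coe_subtype]
    rfl
  have hN : Subgroup.normalizer ((Q : Subgroup C) : Set C) ≤
      Subgroup.centralizer ((Q : Subgroup C) : Set C) := by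
    intro c hc a ha
    have h1 : ∀ w ∈ (P : Subgroup G), (c : G) * w * (c : G)⁻¹ ∈ (P : Subgroup G) := fun w hw =>
      (hQmem (c * ⟨w, hle hw⟩ * c⁻¹)).1
        ((Subgroup.mem_normalizer_iff.1 hc ⟨w, hle hw⟩).1 ((hQmem ⟨w, hle hw⟩).2 hw))
    have hcN : (c : G) ∈ Subgroup.normalizer ((P : Subgroup G) : Set G) :=
      Subgroup.mem_normalizer_iff_map_conj_eq.2 <| Subgroup.eq_of_le_of_card_ge
        (by rintro _ ⟨w, hw, rfl⟩; exact h1 w hw)
        (by rw [Subgroup.card_map_of_injective (MulEquiv.injective _)])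
    have := Subgroup.mem_centralizer_iff.1 (hF.cen c hcN x hx hx1
      (Subgroup.mem_centralizer_singleton_iff.1 c.2)) a ((hQmem a).1 ha)
    exact Subtype.ext this
  have hc := MonoidHom.ker_transferSylow_isComplement' Q hN
  set K := (MonoidHom.transferSylow Q hN).ker
  have hQc : Nat.card (Q : Subgroup C) = Nat.card (P : Subgroup G) := by
    rw [hQ, Sylow.coe_subtype]
    exact Nat.card_congr (Subgroup.subgroupOfEquivOfLe hle).toEquiv
  obtain ⟨k, hk⟩ := IsPGroup.iff_card.1 P.2
  have hKi : K.index = 2 ^ k := by rw [hc.symm.index_eq_card, hQc, hk]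
  have hK2 : ¬ 2 ∣ Nat.card K := MonoidHom.not_dvd_card_ker_transferSylow Q hN
  obtain ⟨i, hi⟩ := IsPGroup.iff_orderOf.1 P.2 ⟨x, hx⟩
  rw [← Subgroup.orderOf_coe] at hi
  have h := (Cfsg.Agent.S0947.result 2 M hM x ⟨i, hi⟩ hx1 1 (by simp)).2 (by
    obtain ⟨j, -, hj⟩ := (Nat.dvd_prime_pow Nat.prime_two).1 (hKi ▸ Subgroup.index_dvd_of_le
      (Lib.Cores.le_pPrimeCore_of_not_dvd hK2 : K ≤ Cfsg.pPrimeCore 2 C))
    exact ⟨j, hj⟩)
  rw [OneMemClass.coe_one, mul_one, ← K.card_mul_index, hKi,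
    Nat.factorization_mul Nat.card_pos.ne' (by positivity), Finsupp.add_apply,
    Nat.factorization_eq_zero_of_not_dvd hK2, Nat.prime_two.factorization_pow,
    Finsupp.single_eq_same, zero_add] at h
  rw [h, hk]

include hF in
/-- Sums over the principal block at two elements of `P`. -/
theorem sum_pair (M : Ideal Cfsg.AlgInt) (hM : Cfsg.IsPModular 2 M) {x y : (P : Subgroup G)}
    (hx : x ≠ 1) :
    ∑ᶠ χ ∈ Cfsg.principalBlock M G, (χ : G → ℂ) x * conj ((χ : G → ℂ) y) =
      (Nat.card (P : Subgroup G) : ℂ) *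
        ∑ i : Fin 3, (open scoped Classical in if sg hF i x = y then (1 : ℂ) else 0) := by
  classical
  haveI := hM.2.1
  by_cases h : IsConj (x : G) (y : G)
  · obtain ⟨i, hi⟩ := hF.fus x x.2 y y.2 h
    have hy : sg hF i x = y := Subtype.ext hi
    rw [Finset.sum_eq_single i ?_ (fun h => absurd (Finset.mem_univ i) h), if_pos hy, mul_one]
    swap
    · exact fun j _ hj => if_neg fun e => hj (sg_eq_iff hF hx (e.trans hy.symm))
    have h' := congrArg (fun r : ℝ => (r : ℂ))
      (sum_norm_sq hF M hM x.2 (fun e => hx (Subtype.ext e)))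
    simp only [Complex.ofReal_natCast] at h'
    rw [← h', finsum_mem_eq_finite_toFinset_sum _ (Set.toFinite _),
      finsum_mem_eq_finite_toFinset_sum _ (Set.toFinite _), Complex.ofReal_sum]
    refine Finset.sum_congr rfl fun χ _ => ?_
    rw [← char_eq_of_isConj χ h, Complex.mul_conj']
    push_cast
    rfl
  · rw [Finset.sum_eq_zero (fun (i : Fin 3) _ => if_neg fun (e : sg hF i x = y) =>
      h (isConj_iff.2 ⟨_, congrArg Subtype.val e⟩)), mul_zero]
    obtain ⟨i, hi⟩ := IsPGroup.iff_orderOf.1 P.2 x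
    obtain ⟨j, hj⟩ := IsPGroup.iff_orderOf.1 P.2 y
    rw [← Subgroup.orderOf_coe] at hi hj
    rw [← sum_block_eq_zero hM (isPPart_self Nat.prime_two ⟨i, hi⟩)
      (isPPart_self Nat.prime_two ⟨j, hj⟩) h isPBlock_principalBlock]
    refine finsum_congr fun χ => finsum_congr fun _ => ?_
    rw [apply_inv (isCharacter_irr χ)]

include hF in
/-- An element with 2-part `x ∈ P`, `x ^ 2 ≠ 1`, is no product of two involutions. -/
theorem no_pairs {g x : G} (hg : Cfsg.IsPPart 2 g x) (hx : x ∈ (P : Subgroup G)) (hxx : x * x ≠ 1)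
    {a b : G} (ha : orderOf a = 2) (hb : orderOf b = 2) (hab : a * b = g) : False := by
  have ha' : a * a = 1 := by rw [← sq, ← ha, pow_orderOf_eq_one]
  have hb' : b * b = 1 := by rw [← sq, ← hb, pow_orderOf_eq_one]
  have hinvg : a * g * a⁻¹ = g⁻¹ := by
    rw [← hab, mul_inv_rev, inv_eq_of_mul_eq_one_right ha', inv_eq_of_mul_eq_one_right hb',
      ← mul_assoc a a b, ha', one_mul]
  have h1 := BrauerMap.PrincipalSection.isPPart_conj hg a
  rw [hinvg] at h1
  obtain ⟨y, hy, hc, ⟨k, hk⟩, hy'⟩ := hg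
  have h2 : Cfsg.IsPPart 2 g⁻¹ x⁻¹ := by
    refine ⟨y⁻¹, ?_, hc.inv_inv, ⟨k, by rw [orderOf_inv, hk]⟩, by rwa [orderOf_inv]⟩
    rw [← mul_inv_rev, ← hc.eq, hy]
  obtain ⟨i, hi⟩ := hF.fus x hx x⁻¹ (inv_mem hx)
    (isConj_iff.2 ⟨a, BrauerMap.PrincipalSection.isPPart_unique Nat.prime_two h1 h2⟩)
  have hi' : sg hF i ⟨x, hx⟩ = (⟨x, hx⟩ : (P : Subgroup G))⁻¹ := Subtype.ext hi
  have hx1 : (⟨x, hx⟩ : (P : Subgroup G)) ≠ 1 := fun e => hxx (by
    rw [show x = 1 from congrArg Subtype.val e, one_mul])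
  have h3 : sg hF (i + i : ℕ) ⟨x, hx⟩ = ⟨x, hx⟩ := by
    rw [← sg_add, hi', map_inv, hi', inv_inv]
  have := sg_fixed hF hx1 h3
  have hi0 : (i : ℕ) = 0 := by omega
  apply hxx
  rw [hi0] at hi
  simp only [pow_zero, one_mul, inv_one, mul_one] at hi
  nth_rewrite 2 [hi]
  exact mul_inv_cancel x

include hF in
/-- The class algebra relation restricted to the principal block. -/
theorem relation (M : Ideal Cfsg.AlgInt) (hM : Cfsg.IsPModular 2 M) {x t : G}
    (hx : x ∈ (P : Subgroup G)) (hxx : x * x ≠ 1) (ht : orderOf t = 2) :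
    ∑ᶠ χ ∈ Cfsg.principalBlock M G,
      (χ : G → ℂ) t * (χ : G → ℂ) t * (χ : G → ℂ) x / (χ : G → ℂ) 1 = 0 := by
  classical
  haveI := hM.2.1
  haveI : Fact (Nat.Prime 2) := ⟨Nat.prime_two⟩
  haveI := Fintype.ofFinite G
  haveI := Fintype.ofFinite (Cfsg.IrrCharacter G)
  obtain ⟨j, hj⟩ := IsPGroup.iff_orderOf.1 P.2 ⟨x, hx⟩
  rw [← Subgroup.orderOf_coe] at hj
  have hxp : Cfsg.IsPPart 2 x x := isPPart_self Nat.prime_two ⟨j, hj⟩
  set H := Subgroup.centralizer ((Subgroup.zpowers x : Subgroup G) : Set G) with hH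
  set e : G → ℂ := fun k => ((BrauerMap.PrincipalSection.extPrinc M H).coeff k : ℂ) with he
  set w : Cfsg.IrrCharacter G → ℂ := fun χ =>
    (χ : G → ℂ) t * (χ : G → ℂ) t / (χ : G → ℂ) 1 with hw
  have hzero : ∀ k : G, e k ≠ 0 → ∑ χ, w χ * (χ : G → ℂ) (x * k) = 0 := by
    intro k hk
    simp only [he] at hk
    rw [BrauerMap.PrincipalSection.coe_coeff_extPrinc] at hk
    split_ifs at hk with hkH
    · have hreg : ¬ 2 ∣ orderOf k := fun hd => hk
        (blockCoeff_eq_zero_of_dvd hM isPBlock_principalBlock (by rwa [Subgroup.orderOf_mk]))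
      have hcom : Commute x k :=
        Subgroup.mem_centralizer_iff.1 hkH x (Subgroup.mem_zpowers x)
      have hgp : Cfsg.IsPPart 2 (x * k)⁻¹ x⁻¹ := by
        refine ⟨k⁻¹, ?_, hcom.inv_inv, ⟨j, by rw [orderOf_inv, hj]⟩, by rwa [orderOf_inv]⟩
        rw [← mul_inv_rev, ← hcom.eq]
      have hcount := Cfsg.Agent.S0840.result t t (x * k)⁻¹
      have hempty : IsEmpty {p : G × G // IsConj t p.1 ∧ IsConj t p.2 ∧ p.1 * p.2 = (x * k)⁻¹} := by
        constructor
        rintro ⟨⟨a, b⟩, ha, hb, hab⟩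
        obtain ⟨c, rfl⟩ := isConj_iff.mp ha
        obtain ⟨d, rfl⟩ := isConj_iff.mp hb
        refine no_pairs hF hgp (inv_mem hx) ?_ ?_ ?_ hab
        · rw [← mul_inv_rev, Ne, inv_eq_one]; exact hxx
        · exact (MulEquiv.orderOf_eq (MulAut.conj c) t).trans ht
        · exact (MulEquiv.orderOf_eq (MulAut.conj d) t).trans ht
      rw [Nat.card_of_isEmpty, Nat.cast_zero, eq_comm, mul_eq_zero, div_eq_zero_iff,
        finsum_eq_sum_of_fintype] at hcount
      have hcl : (Nat.card {z : G // IsConj t z} : ℂ) ≠ 0 := by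
        have : Nonempty {z : G // IsConj t z} := ⟨⟨t, IsConj.refl t⟩⟩
        exact Nat.cast_ne_zero.mpr Nat.card_pos.ne'
      rw [← hcount.resolve_left (by simp [hcl, natCard_ne_zero])]
      refine Finset.sum_congr rfl fun χ _ => ?_
      rw [← apply_inv (isCharacter_irr χ), inv_inv]
      simp only [hw]
      ring
    · exact absurd rfl hk
  have h1 : ∑ χ, w χ * ∑ k : G, e k * (χ : G → ℂ) (x * k) = 0 := by
    simp only [Finset.mul_sum]
    rw [Finset.sum_comm]
    refine Finset.sum_eq_zero fun k _ => ?_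
    by_cases hk : e k = 0
    · simp [hk]
    · calc _ = e k * ∑ χ, w χ * (χ : G → ℂ) (x * k) := by
            rw [Finset.mul_sum]; exact Finset.sum_congr rfl fun χ _ => by ring
        _ = 0 := by rw [hzero k hk, mul_zero]
  rw [finsum_mem_eq_finite_toFinset_sum _ (Set.toFinite _), ← h1,
    ← Finset.sum_subset (Finset.subset_univ (Set.toFinite (Cfsg.principalBlock M G)).toFinset)]
  · refine Finset.sum_congr rfl fun χ hχ => ?_
    simp only [he, hH]
    rw [BrauerMap.PrincipalSection.sum_extPrinc_apply hM hxp χ,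
      if_pos ((Set.Finite.mem_toFinset _).1 hχ)]
    simp only [hw]
    ring
  · intro χ _ hχ
    simp only [he, hH]
    rw [BrauerMap.PrincipalSection.sum_extPrinc_apply hM hxp χ,
      if_neg (fun h => hχ ((Set.Finite.mem_toFinset _).2 h)), mul_zero]

/-- The only solution of the degree equation. -/
theorem solve {u v : ℤ} (hu : (16 : ℤ) ∣ u - 1) (hv : (16 : ℤ) ∣ v - 1)
    (h : (u * v + u + v) * (1 + u + v) = 9 * (u * v)) : u = 1 := by
  set s := u + v with hs
  set q := u * v with hq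
  have e : q * (s - 8) = -(s * (1 + s)) := by linear_combination h
  have hd : (s - 8) ∣ 72 := ⟨-(q + s + 9), by linear_combination e⟩
  have hb := Int.le_of_dvd (by norm_num) hd
  have hb' := Int.le_of_dvd (by norm_num) (neg_dvd.2 hd)
  have hs16 : (16 : ℤ) ∣ s - 2 := by
    have := dvd_add hu hv
    rwa [show u - 1 + (v - 1) = s - 2 by rw [hs]; ring] at this
  obtain ⟨k, hk⟩ := hs16
  have hk1 : -5 ≤ k := by omega
  have hk2 : k ≤ 4 := by omega
  have hk0 : k = 0 := by
    rw [show s - 8 = 16 * k - 6 by omega] at hd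
    interval_cases k <;> revert hd <;> decide
  have hs2 : s = 2 := by omega
  rw [hs2] at e
  have hq1 : q = 1 := by omega
  have hv' : v = 2 - u := by omega
  rw [hq, hv'] at hq1
  nlinarith [sq_nonneg (u - 1)]

include hF in
/-- Brauer's argument: a non-trivial linear character trivial on `P`. -/
theorem exists_linear (M : Ideal Cfsg.AlgInt) (hM : Cfsg.IsPModular 2 M)
    {x : G} (hx : x ∈ (P : Subgroup G)) (hxx : x * x ≠ 1)
    (h16 : 16 ∣ Nat.card (P : Subgroup G)) :
    ∃ χ : Cfsg.IrrCharacter G, (χ : G → ℂ) 1 = 1 ∧ χ ≠ oneChar G ∧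
      ∀ z ∈ (P : Subgroup G), (χ : G → ℂ) z = 1 := by
  classical
  haveI := hM.2.1
  haveI : Fact (Nat.Prime 2) := ⟨Nat.prime_two⟩
  haveI := Fintype.ofFinite G
  haveI := Fintype.ofFinite (P : Subgroup G)
  haveI := finite_dual hF
  haveI := Fintype.ofFinite ((P : Subgroup G) →* ℂˣ)
  set c : ℂ := (Nat.card (P : Subgroup G) : ℂ) with hc
  have hc0 : c ≠ 0 := natCard_ne_zero
  set x' : (P : Subgroup G) := ⟨x, hx⟩ with hx'
  have hx'1 : x' ≠ 1 := fun e => hxx (by rw [show x = 1 from congrArg Subtype.val e, one_mul])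
  obtain ⟨t', ht'⟩ : ∃ t' : (P : Subgroup G), orderOf t' = 2 :=
    exists_prime_orderOf_dvd_card' 2 ((show 2 ∣ 16 by norm_num).trans h16)
  have ht1 : t' ≠ 1 := fun e => by rw [e, orderOf_one] at ht'; omega
  have htt : t' * t' = 1 := by rw [← sq]; exact orderOf_dvd_iff_pow_eq_one.1 ht'.dvd
  -- the coefficients
  have hL : ∀ (χ : Cfsg.IrrCharacter G) (ψ : (P : Subgroup G) →* ℂˣ), ∃ l : ℤ,
      (l : ℂ) = c⁻¹ * ∑ z : (P : Subgroup G), (χ : G → ℂ) z * (1 - conj (ψ z : ℂ)) := by
    intro χ ψ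
    obtain ⟨d, ρ, -, hρ⟩ := χ.2
    have hres : Cfsg.IsCharacter (P : Subgroup G) (fun a : (P : Subgroup G) => (χ : G → ℂ) a) :=
      ⟨d, ρ.comp (P : Subgroup G).subtype, by rw [← hρ]; rfl⟩
    obtain ⟨k1, hk1⟩ := exists_classInner_nat hres
      (isCharacter_irr (Characters.Linear.linChar (1 : (P : Subgroup G) →* ℂˣ)))
    obtain ⟨k2, hk2⟩ := exists_classInner_nat hres
      (isCharacter_irr (Characters.Linear.linChar ψ))
    refine ⟨(k1 : ℤ) - k2, ?_⟩
    push_cast
    rw [← hk1, ← hk2, Cfsg.classInner, Cfsg.classInner, ← mul_sub, ← Finset.sum_sub_distrib]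
    congr 1
    refine Finset.sum_congr rfl fun z _ => ?_
    simp [Characters.Linear.linChar_apply]
    ring
  choose L hL using hL
  set s := ((Set.toFinite (Cfsg.principalBlock M G)).toFinset).erase (oneChar G) with hs
  have h1B : oneChar G ∈ (Set.toFinite (Cfsg.principalBlock M G)).toFinset :=
    (Set.Finite.mem_toFinset _).2 oneChar_mem_principalBlock
  have hblock : ∀ f : Cfsg.IrrCharacter G → ℂ,
      ∑ᶠ χ ∈ Cfsg.principalBlock M G, f χ = f (oneChar G) + ∑ χ ∈ s, f χ := fun f => by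
    rw [finsum_mem_eq_finite_toFinset_sum _ (Set.toFinite _), hs, Finset.add_sum_erase _ f h1B]
  have hL1 : ∀ ψ : (P : Subgroup G) →* ℂˣ, ψ ≠ 1 → L (oneChar G) ψ = 1 := by
    intro ψ hψ
    have h := hL (oneChar G) ψ
    have hsum : ∑ z : (P : Subgroup G), conj (ψ z : ℂ) = 0 := by
      rw [← map_sum, sum_elems ψ, if_neg hψ, map_zero]
    simp only [oneChar_apply, one_mul, Finset.sum_sub_distrib, hsum, sub_zero, Finset.sum_const,
      Finset.card_univ, nsmul_eq_mul, mul_one] at h
    rw [hc, Nat.card_eq_fintype_card, inv_mul_cancel₀ (Nat.cast_ne_zero.2 Fintype.card_ne_zero)]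
      at h
    exact_mod_cast h
  have hL0 : ∀ χ : Cfsg.IrrCharacter G, L χ 1 = 0 := fun χ => by
    have h := hL χ 1
    simp at h
    exact_mod_cast h
  -- values on `P`
  have hval : ∀ (χ : Cfsg.IrrCharacter G) (z : (P : Subgroup G)), z ≠ 1 →
      (χ : G → ℂ) z = -∑ ψ : (P : Subgroup G) →* ℂˣ, (L χ ψ : ℂ) * (ψ z : ℂ) := by
    intro χ z hz
    simp only [hL, mul_assoc, ← Finset.mul_sum, Finset.sum_mul]
    rw [Finset.sum_comm]
    have hin : ∀ w : (P : Subgroup G), ∑ ψ : (P : Subgroup G) →* ℂˣ, (χ : G → ℂ) w * ((1 - conj (ψ w : ℂ)) * (ψ z : ℂ)) =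
        -((χ : G → ℂ) w * if w = z then c else 0) := by
      intro w
      simp only [sub_mul, one_mul, mul_sub, Finset.sum_sub_distrib, ← Finset.mul_sum, conj_hom]
      rw [sum_dual hF z, if_neg hz, mul_zero, zero_sub]
      congr 2
      rw [Finset.sum_congr rfl fun ψ _ => (by rw [map_mul, Units.val_mul] :
        (ψ w⁻¹ : ℂ) * (ψ z : ℂ) = (ψ (w⁻¹ * z) : ℂ)), sum_dual hF]
      exact if_congr inv_mul_eq_one rfl rfl
    rw [Finset.sum_congr rfl fun w _ => hin w, Finset.sum_neg_distrib]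
    simp only [mul_ite, mul_zero, Finset.sum_ite_eq', Finset.mem_univ, if_true]
    field_simp
  -- inner products
  have hinner : ∀ ψ ψ' : (P : Subgroup G) →* ℂˣ, ψ ≠ 1 → ψ' ≠ 1 →
      ∑ χ ∈ s, L χ ψ * L χ ψ' = 2 + (orbN hF ψ ψ' : ℤ) := by
    intro ψ ψ' hψ hψ'
    have hterm : ∀ χ : Cfsg.IrrCharacter G, (L χ ψ : ℂ) * (L χ ψ' : ℂ) = c⁻¹ * c⁻¹ *
        ∑ z : (P : Subgroup G), ∑ w : (P : Subgroup G), (1 - conj (ψ z : ℂ)) * (1 - (ψ' w : ℂ)) *
          ((χ : G → ℂ) z * conj ((χ : G → ℂ) w)) := by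
      intro χ
      have h2 : (L χ ψ' : ℂ) = conj (L χ ψ' : ℂ) := by rw [map_intCast]
      rw [h2, hL, hL, map_mul, map_inv₀, hc, map_natCast, map_sum, mul_mul_mul_comm,
        Finset.sum_mul_sum]
      congr 1
      refine Finset.sum_congr rfl fun z _ => Finset.sum_congr rfl fun w _ => ?_
      simp only [map_mul, map_sub, map_one, Complex.conj_conj]
      ring
    have hall : ∑ᶠ χ ∈ Cfsg.principalBlock M G, (L χ ψ : ℂ) * (L χ ψ' : ℂ) =
        3 + (orbN hF ψ ψ' : ℂ) := by
      rw [finsum_mem_eq_finite_toFinset_sum _ (Set.toFinite _)]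
      simp only [hterm, ← Finset.mul_sum]
      rw [Finset.sum_comm]
      simp only [Finset.sum_comm (s := (Set.toFinite (Cfsg.principalBlock M G)).toFinset),
        ← Finset.mul_sum]
      have key : ∀ z w : (P : Subgroup G), (1 - conj (ψ z : ℂ)) * (1 - (ψ' w : ℂ)) *
          (∑ χ ∈ (Set.toFinite (Cfsg.principalBlock M G)).toFinset,
            (χ : G → ℂ) z * conj ((χ : G → ℂ) w)) =
          c * ∑ i : Fin 3, if sg hF i z = w then (1 - conj (ψ z : ℂ)) * (1 - (ψ' w : ℂ)) else 0 := by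
        intro z w
        rcases eq_or_ne z 1 with rfl | hz
        · simp
        rw [← finsum_mem_eq_finite_toFinset_sum _ (Set.toFinite _), sum_pair hF M hM hz,
          Finset.mul_sum, Finset.mul_sum, Finset.mul_sum]
        refine Finset.sum_congr rfl fun i _ => ?_
        split_ifs <;> ring
      simp only [key, ← Finset.mul_sum]
      have hz : ∀ z : (P : Subgroup G), ∑ w : (P : Subgroup G), ∑ i : Fin 3,
          (if sg hF i z = w then (1 - conj (ψ z : ℂ)) * (1 - (ψ' w : ℂ)) else 0) =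
          ∑ i : Fin 3, (1 - conj (ψ z : ℂ)) * (1 - (ψ' (sg hF i z) : ℂ)) := by
        intro z
        rw [Finset.sum_comm]
        simp
      simp only [hz]
      rw [Finset.sum_comm]
      have hi : ∀ i : Fin 3, ∑ z : (P : Subgroup G), (1 - conj (ψ z : ℂ)) * (1 - (ψ' (sg hF i z) : ℂ)) =
          c * (1 + if ψ'.comp (sg hF i) = ψ then (1 : ℂ) else 0) := by
        intro i
        have e1 : ∀ z : (P : Subgroup G), (1 - conj (ψ z : ℂ)) * (1 - (ψ' (sg hF i z) : ℂ)) =
            1 - conj (ψ z : ℂ) - ((ψ'.comp (sg hF i)) z : ℂ) +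
              ((ψ⁻¹ * ψ'.comp (sg hF i)) z : ℂ) := by
          intro z
          rw [MonoidHom.mul_apply, MonoidHom.inv_apply, Units.val_mul, ← map_inv, ← conj_hom,
            MonoidHom.comp_apply]
          ring
        simp only [e1, Finset.sum_add_distrib, Finset.sum_sub_distrib, ← map_sum, sum_elems,
          if_neg hψ, if_neg (comp_ne_one hF hψ'), map_zero, sub_zero, Finset.sum_const,
          Finset.card_univ, nsmul_eq_mul, mul_one]
        rw [mul_add, mul_one, hc, Nat.card_eq_fintype_card, mul_ite, mul_one, mul_zero]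
        congr 1
        refine if_congr ?_ rfl rfl
        exact (inv_mul_eq_one (G := (P : Subgroup G) →* ℂˣ)).trans eq_comm
      simp only [hi, ← Finset.mul_sum, Finset.sum_add_distrib, Finset.sum_const, Finset.card_univ,
        Fintype.card_fin, nsmul_eq_mul, Finset.sum_boole, mul_one]
      rw [orbN]
      push_cast
      field_simp
      congr 3
      ext i
      simp
    rw [hblock (fun χ => (L χ ψ : ℂ) * (L χ ψ' : ℂ)), hL1 ψ hψ, hL1 ψ' hψ'] at hall
    have h' : ((∑ χ ∈ s, L χ ψ * L χ ψ' : ℤ) : ℂ) = ((2 + (orbN hF ψ ψ' : ℤ) : ℤ) : ℂ) := by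
      push_cast at hall ⊢
      linear_combination hall
    exact_mod_cast h'
  have hdeg : ∀ ψ : (P : Subgroup G) →* ℂˣ, ψ ≠ 1 →
      1 + ∑ χ ∈ s, (Cfsg.charDegree (χ : G → ℂ) : ℂ) * (L χ ψ : ℂ) = 0 := by
    intro ψ hψ
    have hall : ∑ᶠ χ ∈ Cfsg.principalBlock M G,
        (χ : G → ℂ) 1 * (L χ ψ : ℂ) = 0 := by
      rw [finsum_mem_eq_finite_toFinset_sum _ (Set.toFinite _)]
      simp only [hL, Finset.mul_sum]
      rw [Finset.sum_comm]
      refine Finset.sum_eq_zero fun z _ => ?_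
      rcases eq_or_ne z 1 with rfl | hz
      · simp
      obtain ⟨k, hk⟩ := IsPGroup.iff_orderOf.1 P.2 z⁻¹
      rw [← Subgroup.orderOf_coe] at hk
      have hw := weak_orthogonality hM (isPBlock_principalBlock (M := M) (G := G))
        (x := 1) (y := ((z⁻¹ : (P : Subgroup G)) : G)) (by simp) (by
          rw [hk]
          refine dvd_pow_self 2 fun h0 => hz ?_
          rw [h0, pow_zero, orderOf_eq_one_iff] at hk
          exact Subtype.ext (by simpa using hk))
      rw [finsum_mem_eq_finite_toFinset_sum _ (Set.toFinite _)] at hw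
      calc _ = c⁻¹ * (1 - conj (ψ z : ℂ)) *
            ∑ χ ∈ (Set.toFinite (Cfsg.principalBlock M G)).toFinset,
              (χ : G → ℂ) 1 * conj ((χ : G → ℂ) ((z⁻¹ : (P : Subgroup G)) : G)) := by
            rw [Finset.mul_sum]
            refine Finset.sum_congr rfl fun χ _ => ?_
            rw [Subgroup.coe_inv, apply_inv (isCharacter_irr χ), Complex.conj_conj]
            ring
        _ = 0 := by rw [hw, mul_zero]
    rw [hblock, hL1 ψ hψ, oneChar_apply, Int.cast_one, one_mul] at hall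
    refine Eq.trans ?_ hall
    simp only [char_one_eq_degree]
  -- the structure of the family
  set J : Finset ((P : Subgroup G) →* ℂˣ) := Finset.univ.erase 1 with hJ
  have hJm : ∀ ψ, ψ ∈ J ↔ ψ ≠ 1 := fun ψ => by simp [hJ]
  obtain ⟨p, hp, q, hq, εp, εq, hpq, hεp, hεq, hπ, hη⟩ :=
    PairFamily.pair_structure (s := s) (J := J) (L := fun ψ χ => L χ ψ) (N := orbN hF)
      (fun a ha b hb => hinner a b ((hJm a).1 ha) ((hJm b).1 hb))
      (fun a ha => orbN_self hF ((hJm a).1 ha))
      (fun a ha b hb => orbN_le hF ((hJm b).1 hb))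
      (fun a ha => by
        refine le_trans (Finset.card_le_card (t := (Finset.univ : Finset (Fin 3)).image
          fun i : Fin 3 => a.comp (sg hF (2 * (i : ℕ)))) ?_) (Finset.card_image_le.trans (by simp))
        intro b hb
        rw [Finset.mem_filter, orbN, Finset.card_eq_one] at hb
        obtain ⟨i, hi⟩ := hb.2
        have him : i ∈ ({i} : Finset (Fin 3)) := Finset.mem_singleton_self i
        rw [← hi] at him
        simp only [Finset.mem_filter, Finset.mem_univ, true_and] at him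
        simp only [Finset.mem_image, Finset.mem_univ, true_and]
        refine ⟨i, ?_⟩
        rw [← him]
        ext z
        simp only [MonoidHom.comp_apply, sg_add]
        rw [show (i : ℕ) + 2 * i = 3 * i by ring, sg_three])
      (by
        rw [hJ, Finset.card_erase_of_mem (Finset.mem_univ _), Finset.card_univ,
          ← Nat.card_eq_fintype_card, card_dual hF]
        have := Nat.le_of_dvd Nat.card_pos h16
        omega)
  choose η hηs hηp hηq hδ hη0 hηN using hη
  set dp : ℤ := (Cfsg.charDegree (p : G → ℂ) : ℤ) with hdp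
  set dq : ℤ := (Cfsg.charDegree (q : G → ℂ) : ℤ) with hdq
  set cc : ℂ := -1 - (εp : ℂ) * dp - (εq : ℂ) * dq with hcc
  have hfz : ∀ (χ : Cfsg.IrrCharacter G), χ ∈ s → ∀ e : ℤ, (∀ ψ ∈ J, L χ ψ = e) →
      ∀ z : (P : Subgroup G), z ≠ 1 → (χ : G → ℂ) z = (e : ℂ) := by
    intro χ _ e he z hz
    rw [hval χ z hz, ← Finset.add_sum_erase _ _ (Finset.mem_univ (1 : (P : Subgroup G) →* ℂˣ)), hL0,
      Int.cast_zero, zero_mul, zero_add,
      Finset.sum_congr rfl fun ψ hψ => by rw [he ψ hψ], ← Finset.mul_sum]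
    have h := sum_dual hF z
    rw [if_neg hz, ← Finset.add_sum_erase _ _ (Finset.mem_univ (1 : (P : Subgroup G) →* ℂˣ))] at h
    simp only [MonoidHom.one_apply, Units.val_one] at h
    linear_combination (-(e : ℂ)) * h
  have hdη : ∀ a (ha : a ∈ J),
      (L (η a ha) a : ℂ) * (Cfsg.charDegree ((η a ha : Cfsg.IrrCharacter G) : G → ℂ) : ℂ) = cc := by
    intro a ha
    have h := hdeg a ((hJm a).1 ha)
    rw [← Finset.sum_subset (s₁ := ({p, q, η a ha} : Finset (Cfsg.IrrCharacter G)))
      (by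
        simp only [Finset.insert_subset_iff, Finset.singleton_subset_iff]
        exact ⟨hp, hq, hηs a ha⟩)
      (fun χ hχ hn => by
        simp only [Finset.mem_insert, Finset.mem_singleton, not_or] at hn
        rw [hη0 a ha χ hχ hn.1 hn.2.1 hn.2.2]
        simp),
      Finset.sum_insert (by simp [hpq, (hηp a ha).symm]), Finset.sum_pair (hηq a ha).symm,
      (hπ a ha).1, (hπ a ha).2] at h
    rw [hcc, hdp, hdq]
    push_cast
    linear_combination h
  have hcc0 : cc ≠ 0 := by
    obtain ⟨a, ha⟩ : J.Nonempty := Finset.card_pos.1 (by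
      rw [hJ, Finset.card_erase_of_mem (Finset.mem_univ _), Finset.card_univ,
        ← Nat.card_eq_fintype_card, card_dual hF]
      have := Nat.le_of_dvd Nat.card_pos h16
      omega)
    rw [← hdη a ha]
    refine mul_ne_zero ?_ (Nat.cast_ne_zero.2 (charDegree_pos _).ne')
    rcases hδ a ha with e | e <;> rw [e] <;> norm_num
  -- the relation
  have hrel := relation hF M hM hx hxx (t := (t' : G)) (by rw [Subgroup.orderOf_coe, ht'])
  rw [hblock] at hrel
  simp only [oneChar_apply, one_mul, div_one] at hrel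
  set s' := (s.erase p).erase q with hs'
  have hrest : ∑ χ ∈ s', (χ : G → ℂ) t' * (χ : G → ℂ) t' * (χ : G → ℂ) x / (χ : G → ℂ) 1 =
      9 / cc := by
    have hsx : ∀ χ ∈ s', (χ : G → ℂ) t' * (χ : G → ℂ) t' * (χ : G → ℂ) x / (χ : G → ℂ) 1 =
        -∑ b ∈ J, (L χ b : ℂ) * ((χ : G → ℂ) t' * (χ : G → ℂ) t' * (b x' : ℂ) /
          (χ : G → ℂ) 1) := by
      intro χ _
      rw [show (χ : G → ℂ) x = (χ : G → ℂ) (x' : G) from rfl, hval χ x' hx'1,
        ← Finset.add_sum_erase _ _ (Finset.mem_univ (1 : (P : Subgroup G) →* ℂˣ)), hL0, Int.cast_zero, zero_mul,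
        zero_add, ← hJ, mul_neg, neg_div, Finset.mul_sum, Finset.sum_div]
      congr 1
      exact Finset.sum_congr rfl fun b _ => by ring
    rw [Finset.sum_congr rfl hsx, Finset.sum_neg_distrib, Finset.sum_comm]
    have hb : ∀ b ∈ J, ∑ χ ∈ s', (L χ b : ℂ) * ((χ : G → ℂ) t' * (χ : G → ℂ) t' * (b x' : ℂ) /
        (χ : G → ℂ) 1) =
          (3 + 2 * ∑ i : Fin 3, (b (sg hF i t') : ℂ)) * (b x' : ℂ) / cc := by
      intro b hb
      set χ := η b hb with hχ
      have hχs : χ ∈ s' := by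
        simp only [hs', Finset.mem_erase]
        exact ⟨hηq b hb, hηp b hb, hηs b hb⟩
      rw [Finset.sum_eq_single χ (fun χ' hχ' hne => by
        simp only [hs', Finset.mem_erase] at hχ'
        rw [hη0 b hb χ' hχ'.2.2 hχ'.2.1 hχ'.1 hne, Int.cast_zero, zero_mul])
        (fun h => absurd hχs h)]
      have ht : (χ : G → ℂ) t' = -(L χ b : ℂ) * ∑ i : Fin 3, (b (sg hF i t') : ℂ) := by
        rw [hval χ t' ht1, neg_mul, Finset.mul_sum, neg_inj,
          ← Finset.add_sum_erase _ _ (Finset.mem_univ (1 : (P : Subgroup G) →* ℂˣ)), hL0, Int.cast_zero, zero_mul,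
          zero_add, ← hJ]
        have e1 : ∀ a ∈ J, (L χ a : ℂ) * (a t' : ℂ) = ∑ i : Fin 3,
            if a = b.comp (sg hF (2 * (i : ℕ))) then
              (L χ b : ℂ) * (b (sg hF (2 * (i : ℕ)) t') : ℂ) else 0 := by
          intro a ha
          have hiff : ∀ i : Fin 3, a = b.comp (sg hF (2 * (i : ℕ))) ↔ a.comp (sg hF i) = b := by
            intro i
            constructor
            · rintro rfl
              ext z
              simp only [MonoidHom.comp_apply, sg_add]
              rw [show 2 * (i : ℕ) + i = 3 * i by ring, sg_three]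
            · rintro rfl
              ext z
              simp only [MonoidHom.comp_apply, sg_add]
              rw [show (i : ℕ) + 2 * i = 3 * i by ring, sg_three]
          rw [hηN b hb a ha, orbN, Int.cast_mul, Int.cast_natCast, Finset.card_filter,
            Nat.cast_sum, Finset.mul_sum, Finset.sum_mul]
          refine Finset.sum_congr rfl fun i _ => ?_
          rcases em (a.comp (sg hF i) = b) with h | h
          · rw [if_pos h, if_pos ((hiff i).2 h), Nat.cast_one, mul_one, (hiff i).2 h]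
            rfl
          · rw [if_neg h, if_neg (fun e => h ((hiff i).1 e)), Nat.cast_zero, mul_zero, zero_mul]
        rw [Finset.sum_congr rfl e1, Finset.sum_comm]
        simp only [Finset.sum_ite_eq']
        have hin : ∀ i : Fin 3, b.comp (sg hF (2 * (i : ℕ))) ∈ J := fun i =>
          (hJm _).2 (comp_ne_one hF ((hJm b).1 hb))
        simp only [hin, if_true, Fin.sum_univ_three, Fin.val_zero, Fin.val_one, Fin.val_two,
          mul_zero, mul_one]
        rw [sg_mod hF (2 * 2), show 2 * 2 % 3 = 1 by rfl]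
        ring
      rw [ht, ← sq_sum_orbit hF htt ht1 b, char_one_eq_degree]
      have hd0 : (Cfsg.charDegree (χ : G → ℂ) : ℂ) ≠ 0 :=
        Nat.cast_ne_zero.2 (charDegree_pos _).ne'
      have hL2 : (L χ b : ℂ) * (L χ b : ℂ) = 1 := by
        rcases hδ b hb with e | e <;> rw [e] <;> norm_num
      have hd := hdη b hb
      rw [← hχ] at hd
      generalize ∑ i : Fin 3, (b (sg hF i t') : ℂ) = S
      generalize (L χ b : ℂ) = δ at hL2 hd ⊢
      have hδ0 : δ ≠ 0 := left_ne_zero_of_mul_eq_one hL2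
      rw [← hd]
      field_simp
      linear_combination (S ^ 2 * (δ * δ + 1)) * hL2
    rw [Finset.sum_congr rfl hb, ← Finset.sum_div, ← neg_div]
    congr 1
    have h := sum_dual hF x'
    rw [if_neg hx'1] at h
    have h2 : ∀ i : Fin 3, ∑ b : (P : Subgroup G) →* ℂˣ, (b (sg hF i t') : ℂ) * (b x' : ℂ) = 0 := by
      intro i
      rw [Finset.sum_congr rfl fun b _ => (by rw [map_mul, Units.val_mul] :
        (b (sg hF i t') : ℂ) * (b x' : ℂ) = (b (sg hF i t' * x') : ℂ)), sum_dual hF, if_neg]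
      intro e
      have e2 : sg hF i t' * sg hF i t' = 1 := by rw [← map_mul, htt, map_one]
      have : x' = sg hF i t' := by
        rw [← mul_right_inj (sg hF i t'), e, e2]
      apply hxx
      have := congrArg Subtype.val (this ▸ e2)
      exact this
    have hall : ∑ b : (P : Subgroup G) →* ℂˣ, (3 + 2 * ∑ i : Fin 3, (b (sg hF i t') : ℂ)) * (b x' : ℂ) = 0 := by
      simp only [add_mul, Finset.sum_add_distrib, mul_assoc, Finset.sum_mul, ← Finset.mul_sum, h]
      rw [Finset.sum_comm]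
      simp [h2]
    rw [← Finset.add_sum_erase _ _ (Finset.mem_univ (1 : (P : Subgroup G) →* ℂˣ)), ← hJ] at hall
    simp only [MonoidHom.one_apply, Units.val_one, Finset.sum_const, Finset.card_univ,
      Fintype.card_fin, nsmul_eq_mul, mul_one] at hall
    push_cast at hall
    linear_combination -hall
  have hp' : ∀ z : (P : Subgroup G), z ≠ 1 → (p : G → ℂ) z = (εp : ℂ) :=
    hfz p hp εp fun ψ hψ => (hπ ψ hψ).1
  have hq' : ∀ z : (P : Subgroup G), z ≠ 1 → (q : G → ℂ) z = (εq : ℂ) :=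
    hfz q hq εq fun ψ hψ => (hπ ψ hψ).2
  rw [← Finset.add_sum_erase s _ hp, ← Finset.add_sum_erase (s.erase p) _
    (Finset.mem_erase.2 ⟨hpq.symm, hq⟩), ← hs', hrest, hp' t' ht1, hq' t' ht1,
    show (p : G → ℂ) x = (p : G → ℂ) (x' : G) from rfl, hp' x' hx'1,
    show (q : G → ℂ) x = (q : G → ℂ) (x' : G) from rfl, hq' x' hx'1, char_one_eq_degree,
    char_one_eq_degree] at hrel
  have hmod : ∀ (χ : Cfsg.IrrCharacter G) (ε : ℤ), (∀ z : (P : Subgroup G), z ≠ 1 → (χ : G → ℂ) z = (ε : ℂ)) →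
      (Nat.card (P : Subgroup G) : ℤ) ∣ (Cfsg.charDegree (χ : G → ℂ) : ℤ) - ε := by
    intro χ ε hχ
    obtain ⟨d, ρ, -, hρ⟩ := χ.2
    have hres : Cfsg.IsCharacter (P : Subgroup G) (fun a : (P : Subgroup G) => (χ : G → ℂ) a) :=
      ⟨d, ρ.comp (P : Subgroup G).subtype, by rw [← hρ]; rfl⟩
    obtain ⟨k, hk⟩ := exists_classInner_nat hres (isCharacter_irr (oneChar (P : Subgroup G)))
    rw [Cfsg.classInner, ← Finset.add_sum_erase _ _ (Finset.mem_univ (1 : (P : Subgroup G)))] at hk
    simp only [oneChar_apply, map_one, mul_one, OneMemClass.coe_one, char_one_eq_degree] at hk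
    rw [Finset.sum_congr rfl fun z hz => hχ z (Finset.mem_erase.1 hz).1, Finset.sum_const,
      Finset.card_erase_of_mem (Finset.mem_univ _), Finset.card_univ, nsmul_eq_mul,
      Nat.cast_sub Fintype.card_pos, ← Nat.card_eq_fintype_card, Nat.cast_one,
      inv_mul_eq_iff_eq_mul₀ hc0] at hk
    refine ⟨(k : ℤ) - ε, ?_⟩
    have h' : (((Cfsg.charDegree (χ : G → ℂ) : ℤ) - ε : ℤ) : ℂ) =
        (((Nat.card (P : Subgroup G) : ℤ) * ((k : ℤ) - ε) : ℤ) : ℂ) := by
      push_cast
      linear_combination hk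
    exact_mod_cast h'
  have h16' : (16 : ℤ) ∣ (Nat.card (P : Subgroup G) : ℤ) := by exact_mod_cast h16
  have hunit : ∀ (ε : ℤ) (d : ℤ), (ε = 1 ∨ ε = -1) → (16 : ℤ) ∣ d - ε → (16 : ℤ) ∣ ε * d - 1 := by
    rintro ε d (rfl | rfl) h
    · simpa using h
    · rw [show (-1 : ℤ) * d - 1 = -(d - -1) by ring]; exact h.neg_right
  have hu1 : εp * dp = 1 := by
    refine solve (v := εq * dq) (hunit _ _ hεp (h16'.trans (hmod p εp hp')))
      (hunit _ _ hεq (h16'.trans (hmod q εq hq'))) ?_
    have hdp0 : (dp : ℂ) ≠ 0 := Int.cast_ne_zero.2 (by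
      have := charDegree_pos p; omega)
    have hdq0 : (dq : ℂ) ≠ 0 := Int.cast_ne_zero.2 (by
      have := charDegree_pos q; omega)
    rw [show (Cfsg.charDegree (p : G → ℂ) : ℂ) = (dp : ℂ) by simp [hdp],
      show (Cfsg.charDegree (q : G → ℂ) : ℂ) = (dq : ℂ) by simp [hdq]] at hrel
    have hcc' : cc = -1 - (εp : ℂ) * dp - (εq : ℂ) * dq := rfl
    have e1 : (εp : ℂ) * εp = 1 := by rcases hεp with e | e <;> rw [e] <;> norm_num
    have e2 : (εq : ℂ) * εq = 1 := by rcases hεq with e | e <;> rw [e] <;> norm_num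
    rw [e1, e2, one_mul, one_mul] at hrel
    field_simp at hrel
    rw [hcc'] at hrel
    have : (((εp * dp * (εq * dq) + εp * dp + εq * dq) * (1 + εp * dp + εq * dq) : ℤ) : ℂ) =
        ((9 * (εp * dp * (εq * dq)) : ℤ) : ℂ) := by
      push_cast
      linear_combination (-(εp : ℂ) * εq) * hrel
        + (-(dq : ℂ) * εq * (1 + εp * dp + εq * dq)) * e1
        + (-(dp : ℂ) * εp * (1 + εp * dp + εq * dq)) * e2
    exact_mod_cast this
  refine ⟨p, ?_, (Finset.mem_erase.1 hp).1, fun z hz => ?_⟩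
  · have := charDegree_pos p
    rw [char_one_eq_degree]
    rcases hεp with e | e <;> rw [e] at hu1
    · have : Cfsg.charDegree (p : G → ℂ) = 1 := by omega
      rw [this, Nat.cast_one]
    · omega
  · rcases eq_or_ne (⟨z, hz⟩ : (P : Subgroup G)) 1 with h | h
    · have hz1 : z = 1 := congrArg Subtype.val h
      rw [hz1, char_one_eq_degree]
      rcases hεp with e | e <;> rw [e] at hu1
      · have : Cfsg.charDegree (p : G → ℂ) = 1 := by omega
        rw [this, Nat.cast_one]
      · have := charDegree_pos p; omega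
    · rw [show (p : G → ℂ) z = _ from hp' ⟨z, hz⟩ h]
      rcases hεp with e | e
      · rw [e, Int.cast_one]
      · rw [e] at hu1; have := charDegree_pos p; omega

theorem pow_two_orders {H : Type u} [Group H] [Finite H] (Q : Sylow 2 H)
    [(Q : Subgroup H).Normal] {h : H} (hh : ∃ k, orderOf h = 2 ^ k) : h ∈ (Q : Subgroup H) := by
  obtain ⟨k, hk⟩ := hh
  have hp : IsPGroup 2 (Subgroup.zpowers h) :=
    IsPGroup.of_card (n := k) (by rw [Nat.card_zpowers, hk])
  obtain ⟨Q', hQ'⟩ := hp.exists_le_sylow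
  haveI := Sylow.unique_of_normal Q ‹_›
  exact Subsingleton.elim Q' Q ▸ hQ' (Subgroup.mem_zpowers h)

/-- Brauer's theorem, by induction on the order. -/
theorem sylow_normal_aux : ∀ (k : ℕ) (G : Type u) [Group G] [Finite G], Nat.card G = k →
    ∀ (P : Sylow 2 G) (m : ℕ), 2 ≤ m →
      ((P : Subgroup G) ≃* Multiplicative (ZMod (2 ^ m) × ZMod (2 ^ m))) →
      (∀ N : Subgroup G, N.Normal → Odd (Nat.card N) → N = ⊥) → (P : Subgroup G).Normal := by
  intro k
  induction k using Nat.strong_induction_on with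
  | _ k ih =>
    intro G _ _ hk P m hm e hO
    haveI : Fact (Nat.Prime 2) := ⟨Nat.prime_two⟩
    obtain ⟨h13, hfacts⟩ := TwoTwo.normalizer_facts P m (by omega) e
    set N := Subgroup.normalizer ((P : Subgroup G) : Set G) with hN
    set C := Subgroup.centralizer ((P : Subgroup G) : Set G) with hC
    by_cases h1 : C.relIndex N = 1
    · have hc := MonoidHom.ker_transferSylow_isComplement' P (Subgroup.relIndex_eq_one.1 h1)
      have hbot := hO _ inferInstance (Nat.not_even_iff_odd.1 fun h =>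
        MonoidHom.not_dvd_card_ker_transferSylow P (Subgroup.relIndex_eq_one.1 h1) h.two_dvd)
      rw [hbot, Subgroup.isComplement'_bot_left] at hc
      rw [hc]
      infer_instance
    · have h3 := h13.resolve_left h1
      obtain ⟨hfix, -⟩ := hfacts h1
      obtain ⟨n, hnN, hnC⟩ : ∃ n ∈ N, n ∉ C := by
        by_contra hall
        push Not at hall
        exact h1 (Subgroup.relIndex_eq_one.2 hall)
      haveI hCn : (C.subgroupOf N).Normal := by
        refine ⟨fun c hc g => ?_⟩
        rw [Subgroup.mem_subgroupOf, Subgroup.mem_centralizer_iff] at hc ⊢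
        intro a ha
        have h1 := hc _ ((Subgroup.mem_normalizer_iff''.1 g.2 a).1 ha)
        have h2 := congrArg (fun w => (g : G) * w * (g : G)⁻¹) h1
        simpa [mul_assoc] using h2
      have hq3 : Nat.card (N ⧸ C.subgroupOf N) = 3 := by
        rw [← Subgroup.index_eq_card]; exact h3
      haveI : Fact (Nat.Prime 3) := ⟨Nat.prime_three⟩
      set g₀ : N ⧸ C.subgroupOf N := QuotientGroup.mk (⟨n, hnN⟩ : N) with hg₀
      have hg₀1 : g₀ ≠ 1 := by
        rw [hg₀, Ne, QuotientGroup.eq_one_iff, Subgroup.mem_subgroupOf]; exact hnC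
      have hord : orderOf g₀ = 3 :=
        ((Nat.dvd_prime Nat.prime_three).1 (hq3 ▸ orderOf_dvd_natCard g₀)).resolve_left
          (fun h => hg₀1 (orderOf_eq_one_iff.1 h))
      have hcube : n ^ 3 ∈ C := by
        have : g₀ ^ 3 = 1 := by rw [← hord, pow_orderOf_eq_one]
        rw [hg₀, ← QuotientGroup.mk_pow, QuotientGroup.eq_one_iff, Subgroup.mem_subgroupOf] at this
        exact this
      have hcover : ∀ c : G, c ∈ N → ∃ i : Fin 3, (n ^ (i : ℕ))⁻¹ * c ∈ C := by
        intro c hc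
        have hgen : Subgroup.zpowers g₀ = ⊤ := zpowers_eq_top_of_prime_card hq3 hg₀1
        have hmem : (QuotientGroup.mk (⟨c, hc⟩ : N) : N ⧸ C.subgroupOf N) ∈ Subgroup.zpowers g₀ :=
          hgen ▸ Subgroup.mem_top _
        rw [← (isOfFinOrder_of_finite g₀).mem_powers_iff_mem_zpowers] at hmem
        obtain ⟨j, hj⟩ := Submonoid.mem_powers_iff _ _ |>.1 hmem
        refine ⟨⟨j % 3, Nat.mod_lt _ (by norm_num)⟩, ?_⟩
        rw [← pow_mod_orderOf, hord, hg₀, ← QuotientGroup.mk_pow, QuotientGroup.eq,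
          Subgroup.mem_subgroupOf] at hj
        simpa using hj
      have hF : Fused P n := by
        refine ⟨fun a ha b hb => ?_, hnN, hcube, fun z hz hz1 i hi => ?_, fun a ha b hb hab => ?_,
          fun c hc z hz hz1 hcz => ?_⟩
        · have := e.injective (a₁ := ⟨a, ha⟩ * ⟨b, hb⟩) (a₂ := ⟨b, hb⟩ * ⟨a, ha⟩)
            (by rw [map_mul, map_mul, mul_comm])
          exact congrArg Subtype.val this
        · have hmem : n ^ i ∈ C := (hfix z hz hz1).le
            ⟨Subgroup.mem_centralizer_singleton_iff.2 (mul_inv_eq_iff_eq_mul.1 hi),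
              pow_mem hnN i⟩
          rw [← hord]
          refine orderOf_dvd_of_pow_eq_one ?_
          rw [hg₀, ← QuotientGroup.mk_pow, QuotientGroup.eq_one_iff, Subgroup.mem_subgroupOf]
          exact hmem
        · obtain ⟨g, hg⟩ := isConj_iff.1 hab
          have hcP : IsMulCommutative (P : Subgroup G) := ⟨⟨fun a b => e.injective (by
            rw [map_mul, map_mul, mul_comm])⟩⟩
          obtain ⟨c, hc, hcc⟩ := Sylow.conj_eq_normalizer_conj_of_mem P a g⁻¹ ha (by
            rw [inv_inv, hg]; exact hb)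
          rw [inv_inv, hg] at hcc
          obtain ⟨i, hi⟩ := hcover c⁻¹ (inv_mem hc)
          refine ⟨i, ?_⟩
          have h := Subgroup.mem_centralizer_iff.1 hi a ha
          rw [hcc]
          calc n ^ (i : ℕ) * a * (n ^ (i : ℕ))⁻¹
              = n ^ (i : ℕ) * (a * ((n ^ (i : ℕ))⁻¹ * c⁻¹)) * c := by group
            _ = n ^ (i : ℕ) * ((n ^ (i : ℕ))⁻¹ * c⁻¹ * a) * c := by rw [h]
            _ = c⁻¹ * a * c := by group
        · exact (hfix z hz hz1).le ⟨Subgroup.mem_centralizer_singleton_iff.2 hcz, hc⟩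
      obtain ⟨M, hM⟩ := exists_isPModular 2 Nat.prime_two
      haveI : NeZero (2 ^ m) := ⟨by positivity⟩
      set x : (P : Subgroup G) := e.symm (Multiplicative.ofAdd ((1, 0) : ZMod (2 ^ m) × ZMod (2 ^ m)))
        with hxdef
      have hxx : (x : G) * (x : G) ≠ 1 := by
        intro h
        have h' : x * x = 1 := Subtype.ext h
        have h2 := congrArg (fun w => (Multiplicative.toAdd w).1) (congrArg e h')
        simp only [hxdef, map_mul, MulEquiv.apply_symm_apply, map_one, toAdd_mul, toAdd_ofAdd,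
          toAdd_one, Prod.fst_add, Prod.fst_zero] at h2
        have h4 : ((2 : ℕ) : ZMod (2 ^ m)) = 0 := by push_cast; linear_combination h2
        rw [ZMod.natCast_eq_zero_iff] at h4
        have := Nat.le_of_dvd two_pos h4
        have : 2 ^ 2 ≤ 2 ^ m := Nat.pow_le_pow_right two_pos hm
        omega
      have hcard : Nat.card (P : Subgroup G) = 2 ^ (m + m) := by
        rw [Nat.card_congr e.toEquiv, Nat.card_congr Multiplicative.toAdd, Nat.card_prod,
          Nat.card_zmod, pow_add]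
      obtain ⟨χ, hχ1, hχne, hχP⟩ := exists_linear hF M hM x.2 hxx
        (hcard ▸ pow_dvd_pow 2 (show 4 ≤ m + m by omega) : 2 ^ 4 ∣ Nat.card (P : Subgroup G))
      set lam := Characters.Linear.degOneHom (isCharacter_irr χ) hχ1 with hlam
      set K := lam.ker with hK
      have hPK : (P : Subgroup G) ≤ K := fun z hz => MonoidHom.mem_ker.2 (Units.ext (by
        rw [hlam, Characters.Linear.degOneHom_apply]; exact hχP z hz))
      have hKlt : Nat.card K < k := by
        rw [← hk]
        refine lt_of_le_of_ne (Subgroup.card_le_card_group K) fun h => hχne ?_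
        have htop := Subgroup.eq_top_of_card_eq K h
        refine Subtype.ext (funext fun g => ?_)
        have hg : g ∈ K := htop ▸ Subgroup.mem_top g
        rw [oneChar_apply, ← Characters.Linear.degOneHom_apply (isCharacter_irr χ) hχ1 g, ← hlam,
          MonoidHom.mem_ker.1 hg, Units.val_one]
      set Q : Sylow 2 K := P.subtype hPK with hQ
      have hQe : (Q : Subgroup K) ≃* Multiplicative (ZMod (2 ^ m) × ZMod (2 ^ m)) :=
        (MulEquiv.subgroupCongr (Sylow.coe_subtype P hPK)).trans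
          ((Subgroup.subgroupOfEquivOfLe hPK).trans e)
      haveI : (Q : Subgroup K).Normal := by
        refine ih _ hKlt K rfl Q m hm hQe fun O hOn hodd => ?_
        haveI := hOn
        haveI : (Cfsg.pPrimeCore 2 K).Characteristic := Lib.Cores.pPrimeCore_characteristic 2
        haveI : (Cfsg.pPrimeCore 2 K).Normal := inferInstance
        have hle : O ≤ Cfsg.pPrimeCore 2 K :=
          Lib.Cores.le_pPrimeCore_of_not_dvd fun h =>
            Nat.not_even_iff_odd.2 hodd (even_iff_two_dvd.2 h)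
        have hmap := hO ((Cfsg.pPrimeCore 2 K).map K.subtype) inferInstance (by
          rw [Subgroup.card_map_of_injective K.subtype_injective]
          exact Nat.not_even_iff_odd.1 fun h => Lib.Cores.not_dvd_card_pPrimeCore 2 h.two_dvd)
        rw [Subgroup.map_eq_bot_iff_of_injective _ K.subtype_injective] at hmap
        exact le_bot_iff.1 (hmap ▸ hle)
      refine ⟨fun z hz g => ?_⟩
      have hgz : g * z * g⁻¹ ∈ K := (MonoidHom.normal_ker lam).conj_mem z (hPK hz) g
      have hmem : (⟨g * z * g⁻¹, hgz⟩ : K) ∈ (Q : Subgroup K) := by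
        refine pow_two_orders Q ?_
        obtain ⟨j, hj⟩ := IsPGroup.iff_orderOf.1 P.2 ⟨z, hz⟩
        rw [Subgroup.orderOf_mk] at hj ⊢
        exact ⟨j, (MulEquiv.orderOf_eq (MulAut.conj g) z).trans hj⟩
      rw [hQ, Sylow.coe_subtype] at hmem
      exact hmem

end Cfsg.Agent.Lib.Homocyclic.BrauerTheorem
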